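import Groth.Agent.H20Comod.Invariants
import Groth.Agent.H20Comod.Slices

/-!
Transporters of stable subspaces, and the coaction on a base change of the ring of invariants.
-/

set_option autoImplicit false
set_option linter.style.haveILetI false
set_option linter.unusedSectionVars false
set_option maxHeartbeats 400000

universe u

open TensorProduct HopfRep
open Groth.Agent.H20Comod

namespace Groth.Agent.H20Luna

noncomputable section

variable {k : Type u} [Field k] {A : Type u} [CommRing A] [HopfAlgebra k A]

section Transporter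

variable {R : Type u} [CommRing R] [Algebra k R] [Comod k A R] [GLin.IsCoactAlg k A R]

/-- The elements multiplying a subspace into another. -/
def transporter (W P : Submodule k R) : Submodule k R where
  carrier := {b | ∀ y ∈ W, b * y ∈ P}
  add_mem' := fun {a b} ha hb y hy => by rw [add_mul]; exact add_mem (ha y hy) (hb y hy)
  zero_mem' := fun y _ => by rw [zero_mul]; exact P.zero_mem
  smul_mem' := fun c b hb y hy => by rw [smul_mul_assoc]; exact P.smul_mem c (hb y hy)

theorem mem_transporter {W P : Submodule k R} {b : R} : b ∈ transporter W P ↔ ∀ y ∈ W, b * y ∈ P := Iff.rfl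

theorem coact_mul_mem {W P : Submodule k R} (hW : IsSubcomod (k := k) (A := A) W)
    (hP : IsSubcomod (k := k) (A := A) P) {b : R} (hb : b ∈ transporter W P) {y : R} (hy : y ∈ W) :
    Comod.coact (k := k) (A := A) b * (y ⊗ₜ[k] (1 : A)) ∈ LinearMap.range (P.subtype.rTensor A) := by
  have hmul : ∀ (x : R ⊗[k] A) (a : A), x ∈ LinearMap.range (P.subtype.rTensor A) →
      x * ((1 : R) ⊗ₜ[k] a) ∈ LinearMap.range (P.subtype.rTensor A) := by
    rintro _ a ⟨z, rfl⟩
    refine ⟨(LinearMap.mulRight k a).lTensor _ z, ?_⟩
    induction z using TensorProduct.induction_on with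
    | zero => simp
    | tmul p q => simp
    | add u v hu hv => simp only [map_add, add_mul, hu, hv]
  have hgen : ∀ z : W ⊗[k] A, Comod.coact (k := k) (A := A) b *
      shear R LinearMap.id (W.subtype.rTensor A z) ∈ LinearMap.range (P.subtype.rTensor A) := by
    intro z
    induction z using TensorProduct.induction_on with
    | zero => simp
    | tmul x a =>
      have e : shear R LinearMap.id ((x : R) ⊗ₜ[k] a) = Comod.coact (k := k) (A := A) (x : R) * ((1 : R) ⊗ₜ[k] a) := by
        rw [shear_tmul]
        generalize Comod.coact (k := k) (A := A) (x : R) = w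
        induction w using TensorProduct.induction_on with
        | zero => simp
        | tmul p q => simp
        | add u v hu hv => simp only [map_add, add_mul, hu, hv]
      rw [LinearMap.rTensor_tmul, Submodule.subtype_apply, e, ← mul_assoc, ← GLin.IsCoactAlg.coact_mul]
      exact hmul _ a (hP _ (hb _ x.2))
    | add u v hu hv => simp only [map_add, mul_add]; exact add_mem hu hv
  have hs : ∀ x : R ⊗[k] A, x ∈ LinearMap.range (W.subtype.rTensor A) →
      shear R (HopfAlgebra.antipode k) x ∈ LinearMap.range (W.subtype.rTensor A) := by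
    rintro _ ⟨z, rfl⟩
    induction z using TensorProduct.induction_on with
    | zero => simp
    | tmul x a =>
      rw [LinearMap.rTensor_tmul, Submodule.subtype_apply, shear_tmul]
      obtain ⟨w, hw⟩ := hW (x : R) x.2
      exact ⟨_, by rw [← hw]; exact (ComodTens.lTensor_rTensor_comm _ _ w).symm⟩
    | add u v hu hv => rw [map_add, map_add]; exact add_mem hu hv
  obtain ⟨z, hz⟩ := hs (y ⊗ₜ[k] (1 : A)) ⟨(⟨y, hy⟩ : W) ⊗ₜ[k] (1 : A), rfl⟩
  have h := hgen z
  rwa [hz, shear_id_shear_antipode] at h

/-- The transporter of stable subspaces is stable. -/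
theorem isSubcomod_transporter {W P : Submodule k R} (hW : IsSubcomod (k := k) (A := A) W)
    (hP : IsSubcomod (k := k) (A := A) P) : IsSubcomod (k := k) (A := A) (transporter W P) := by
  rw [isSubcomod_iff_forall_actL]
  intro b hb φ y hy
  have h := sliceR_mem_of_mem_range (coact_mul_mem hW hP hb hy) φ
  rw [actL_apply]
  generalize Comod.coact (k := k) (A := A) b = z at h ⊢
  suffices sliceR φ (z * (y ⊗ₜ[k] (1 : A))) = sliceR φ z * y by rwa [this] at h
  clear h
  induction z using TensorProduct.induction_on with
  | zero => simp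
  | tmul p q => simp
  | add u v hu hv => simp only [map_add, add_mul, hu, hv]

/-- An element of a stable subspace congruent to one modulo a stable ideal can be made invariant. -/
theorem exists_invariant_sub_one_mem {α : A →ₗ[k] k} (hα : IsIntegral α) (h1 : α 1 = 1) {P : Submodule k R}
    (hP : IsSubcomod (k := k) (A := A) P) {I : Ideal R} (hI : IsSubcomod (k := k) (A := A) (I.restrictScalars k))
    {c : R} (hc : c ∈ P) (hc1 : c - 1 ∈ I) :
    ∃ e ∈ GLin.invariants k A R, e ∈ P ∧ e - 1 ∈ I := by
  refine ⟨actL α c, actL_mem_fixedPts hα h1 c, actL_mem_of_isSubcomod hP α hc, ?_⟩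
  have h := actL_mem_of_isSubcomod hI α (show c - 1 ∈ I.restrictScalars k from hc1)
  rwa [map_sub, actL_eq_self_of_fixed h1 (show (1 : R) ∈ fixedPts k A R from (GLin.invariants k A R).one_mem)] at h

omit [GLin.IsCoactAlg k A R] in
theorem isSubcomod_ker_of_isComodHom {Q : Type u} [AddCommGroup Q] [Module k Q] [Comod k A Q] {f : R →ₗ[k] Q}
    (hf : Hoch.IsComodHom A f) : IsSubcomod (k := k) (A := A) (LinearMap.ker f) := by
  rw [isSubcomod_iff_forall_actL]
  intro r hr φ
  rw [LinearMap.mem_ker, actL_natural f hf φ r, show f r = 0 from hr, map_zero]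

omit [GLin.IsCoactAlg k A R] in
theorem isSubcomod_range_of_isComodHom {Q : Type u} [AddCommGroup Q] [Module k Q] [Comod k A Q] {f : Q →ₗ[k] R}
    (hf : Hoch.IsComodHom A f) : IsSubcomod (k := k) (A := A) (LinearMap.range f) := by
  rw [isSubcomod_iff_forall_actL]
  rintro _ ⟨q, rfl⟩ φ
  exact ⟨actL φ q, actL_natural f hf φ q⟩

end Transporter

section BaseChange

variable {S : Type u} [CommRing S] [Algebra k S] [Comod k A S] [GLin.IsCoactAlg k A S]
  {S₀ R₀ : Type u} [CommRing S₀] [Algebra k S₀] [Algebra S₀ S] [IsScalarTower k S₀ S]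
  [CommRing R₀] [Algebra k R₀] [Algebra S₀ R₀] [IsScalarTower k S₀ R₀]

/-- The coaction on a base change of the ring of invariants. -/
theorem exists_comod_baseChange (hS₀ : ∀ s : S₀, algebraMap S₀ S s ∈ GLin.invariants k A S) :
    ∃ c : Comod k A (S ⊗[S₀] R₀), @GLin.IsCoactAlg k _ A _ _ (S ⊗[S₀] R₀) _ _ c ∧
      ∀ (s : S) (r : R₀), c.coact (s ⊗ₜ[S₀] r) =
        (((TensorProduct.mk S₀ S R₀).flip r).restrictScalars k).rTensor A (Comod.coact (k := k) (A := A) s) := by
  let T := S ⊗[S₀] R₀
  let iS : S →ₐ[k] T := Algebra.TensorProduct.includeLeft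
  let iR : R₀ →ₐ[k] T := (Algebra.TensorProduct.includeRight : R₀ →ₐ[S₀] T).restrictScalars k
  let F : S →ₐ[S₀] T ⊗[k] A :=
    { ((Algebra.TensorProduct.map iS (AlgHom.id k A)).comp (GLin.coactAlgHom k A S)).toRingHom with
      commutes' := fun s => by
        show Algebra.TensorProduct.map iS (AlgHom.id k A) (Comod.coact (k := k) (A := A) (algebraMap S₀ S s)) = _
        rw [show Comod.coact (k := k) (A := A) (algebraMap S₀ S s) = algebraMap S₀ S s ⊗ₜ[k] (1 : A) from hS₀ s,
          Algebra.TensorProduct.map_tmul, map_one]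
        rfl }
  let G : R₀ →ₐ[S₀] T ⊗[k] A :=
    (Algebra.TensorProduct.includeLeft : T →ₐ[S₀] T ⊗[k] A).comp Algebra.TensorProduct.includeRight
  let Φ : T →ₐ[k] T ⊗[k] A := (Algebra.TensorProduct.lift F G fun _ _ => Commute.all _ _).restrictScalars k
  have hΦ : ∀ (s : S) (r : R₀), Φ (s ⊗ₜ[S₀] r) =
      (((TensorProduct.mk S₀ S R₀).flip r).restrictScalars k).rTensor A (Comod.coact (k := k) (A := A) s) := by
    intro s r
    show Algebra.TensorProduct.map iS (AlgHom.id k A) (Comod.coact (k := k) (A := A) s) *
      ((iR r) ⊗ₜ[k] (1 : A)) = _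
    generalize Comod.coact (k := k) (A := A) s = z
    induction z using TensorProduct.induction_on with
    | zero => simp
    | tmul p a =>
      rw [LinearMap.rTensor_tmul, Algebra.TensorProduct.map_tmul, Algebra.TensorProduct.tmul_mul_tmul]
      refine congrArg₂ (fun a b => a ⊗ₜ[k] b) ?_ (mul_one a)
      show (p ⊗ₜ[S₀] (1 : R₀)) * ((1 : S) ⊗ₜ[S₀] r) = p ⊗ₜ[S₀] r
      rw [Algebra.TensorProduct.tmul_mul_tmul, mul_one, one_mul]
    | add u v hu hv => rw [map_add, map_add, add_mul, hu, hv]
  let L : R₀ → (S →ₗ[k] T) := fun r => ((TensorProduct.mk S₀ S R₀).flip r).restrictScalars k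
  suffices h : _ ∧ _ from ⟨{ coact := Φ.toLinearMap, coassoc := h.1, counit_comp := h.2 },
    @GLin.IsCoactAlg.mk k _ A _ _ T _ _ { coact := Φ.toLinearMap, coassoc := h.1, counit_comp := h.2 }
      (map_one Φ) (map_mul Φ), hΦ⟩
  refine ⟨?_, ?_⟩
  · refine LinearMap.ext fun t => ?_
    induction t using TensorProduct.induction_on with
    | zero => simp
    | add u v hu hv => rw [map_add, map_add, hu, hv]
    | tmul s r =>
      have hco := LinearMap.congr_fun (Comod.coassoc (k := k) (A := A) (V := S)) s
      simp only [LinearMap.coe_comp, Function.comp_apply, LinearEquiv.coe_coe] at hco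
      simp only [LinearMap.coe_comp, Function.comp_apply, LinearEquiv.coe_coe, AlgHom.toLinearMap_apply]
      have h2 : Φ.toLinearMap ∘ₗ L r = (L r).rTensor A ∘ₗ Comod.coact (k := k) (A := A) :=
        LinearMap.ext fun s' => hΦ s' r
      rw [hΦ, show ((TensorProduct.mk S₀ S R₀).flip r).restrictScalars k = L r from rfl,
        ← LinearMap.rTensor_comp_apply, h2, LinearMap.rTensor_comp_apply]
      rw [← LinearMap.comp_apply (LinearMap.lTensor T _), LinearMap.lTensor_comp_rTensor,
        ← LinearMap.rTensor_comp_lTensor, LinearMap.comp_apply, ← hco]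
      generalize LinearMap.rTensor A (Comod.coact (k := k) (A := A)) (Comod.coact (k := k) (A := A) s) = z
      induction z using TensorProduct.induction_on with
      | zero => simp
      | add u v hu hv => simp only [map_add, hu, hv]
      | tmul p a =>
        induction p using TensorProduct.induction_on with
        | zero => simp
        | add u v hu hv => simp only [map_add, TensorProduct.add_tmul, hu, hv]
        | tmul p b => simp
  · refine LinearMap.ext fun t => ?_
    induction t using TensorProduct.induction_on with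
    | zero => simp
    | add u v hu hv => rw [map_add, map_add, hu, hv]
    | tmul s r =>
      have hc := LinearMap.congr_fun (Comod.counit_comp (k := k) (A := A) (V := S)) s
      simp only [LinearMap.coe_comp, Function.comp_apply] at hc
      simp only [LinearMap.coe_comp, Function.comp_apply, AlgHom.toLinearMap_apply]
      rw [hΦ, show ((TensorProduct.mk S₀ S R₀).flip r).restrictScalars k = L r from rfl,
        ← LinearMap.comp_apply (LinearMap.lTensor T _), LinearMap.lTensor_comp_rTensor,
        ← LinearMap.rTensor_comp_lTensor, LinearMap.comp_apply, hc]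
      simp [L]

variable {R : Type u} [CommRing R] [Algebra k R] [Comod k A R] [GLin.IsCoactAlg k A R]

/-- A comparison map out of a base change commutes with the coactions. -/
theorem isComodHom_baseChange [Comod k A (S ⊗[S₀] R₀)]
    (hc : ∀ (s : S) (r : R₀), Comod.coact (k := k) (A := A) (s ⊗ₜ[S₀] r) =
      (((TensorProduct.mk S₀ S R₀).flip r).restrictScalars k).rTensor A (Comod.coact (k := k) (A := A) s))
    (φ : S →ₐ[k] R) (hφ : Hoch.IsComodHom A φ.toLinearMap) (ψ : S ⊗[S₀] R₀ →ₐ[k] R) (j : R₀ → R)
    (hj : ∀ r, j r ∈ GLin.invariants k A R) (hψ : ∀ s r, ψ (s ⊗ₜ[S₀] r) = φ s * j r) :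
    Hoch.IsComodHom A ψ.toLinearMap := by
  refine LinearMap.ext fun t => ?_
  induction t using TensorProduct.induction_on with
  | zero => simp
  | add u v hu hv => rw [map_add, map_add, hu, hv]
  | tmul s r =>
    show Comod.coact (k := k) (A := A) (ψ (s ⊗ₜ[S₀] r)) =
      ψ.toLinearMap.rTensor A (Comod.coact (k := k) (A := A) (s ⊗ₜ[S₀] r))
    rw [hψ, GLin.IsCoactAlg.coact_mul, show Comod.coact (k := k) (A := A) (j r) = j r ⊗ₜ[k] (1 : A) from hj r,
      show Comod.coact (k := k) (A := A) (φ s) = φ.toLinearMap.rTensor A (Comod.coact (k := k) (A := A) s) from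
        LinearMap.congr_fun hφ s, hc, ← LinearMap.rTensor_comp_apply]
    generalize Comod.coact (k := k) (A := A) s = z
    induction z using TensorProduct.induction_on with
    | zero => simp
    | tmul p a => simp [hψ]
    | add u v hu hv => rw [map_add, map_add, add_mul, hu, hv]

end BaseChange

end

end Groth.Agent.H20Luna
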