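import Groth.Agent.H20Luna.Fundamental
import Groth.Agent.H20Luna.Stable
import Groth.Agent.H20ZMT.Basic

/-!
An equivariant map, étale along a closed stable subscheme mapped isomorphically onto its image and
with all invariants coming from the target, is an isomorphism over a saturated neighbourhood.
-/

set_option autoImplicit false
set_option linter.style.haveILetI false
set_option linter.unusedSectionVars false
set_option backward.isDefEq.respectTransparency false
set_option maxHeartbeats 800000
set_option synthInstance.maxHeartbeats 100000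

universe u

open TensorProduct HopfRep
open Groth.Agent.H20Comod

namespace Groth.Agent.H20Luna

noncomputable section

variable {k : Type u} [Field k] {A : Type u} [CommRing A] [HopfAlgebra k A]

theorem exists_pow_mul_mem_of_generators {R : Type u} [CommRing R] [Algebra k R] (B : Subalgebra k R) {e : R}
    (he : e ∈ B) {X : Set R} (hX : Algebra.adjoin k X = ⊤) (hmul : ∀ x ∈ X, e * x ∈ B) (r : R) :
    ∃ n : ℕ, e ^ n * r ∈ B := by
  have hr : r ∈ Algebra.adjoin k X := hX ▸ trivial
  induction hr using Algebra.adjoin_induction with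
  | mem x hx => exact ⟨1, by rw [pow_one]; exact hmul x hx⟩
  | algebraMap c => exact ⟨0, by rw [pow_zero, one_mul]; exact B.algebraMap_mem c⟩
  | add a b _ _ ha hb =>
    obtain ⟨n, hn⟩ := ha
    obtain ⟨m, hm⟩ := hb
    refine ⟨n + m, ?_⟩
    rw [mul_add, show e ^ (n + m) * a = e ^ m * (e ^ n * a) by ring,
      show e ^ (n + m) * b = e ^ n * (e ^ m * b) by ring]
    exact add_mem (mul_mem (pow_mem he m) hn) (mul_mem (pow_mem he n) hm)
  | mul a b _ _ ha hb =>
    obtain ⟨n, hn⟩ := ha
    obtain ⟨m, hm⟩ := hb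
    exact ⟨n + m, by rw [show e ^ (n + m) * (a * b) = (e ^ n * a) * (e ^ m * b) by ring]; exact mul_mem hn hm⟩

variable {T R : Type u} [CommRing T] [Algebra k T] [Comod k A T] [GLin.IsCoactAlg k A T]
  [CommRing R] [Algebra k R] [Comod k A R] [GLin.IsCoactAlg k A R] [Algebra T R] [IsScalarTower k T R]
  {I : Ideal R}

variable (hTR : Hoch.IsComodHom A (IsScalarTower.toAlgHom k T R).toLinearMap)
  (hIs : IsSubcomod (k := k) (A := A) (I.restrictScalars k))
  (hC : ∀ r : R, ∃ t : T, r - algebraMap T R t ∈ I)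

include hTR in
theorem isSubcomod_comap_algebraMap (hIs : IsSubcomod (k := k) (A := A) (I.restrictScalars k)) :
    IsSubcomod (k := k) (A := A) ((I.comap (algebraMap T R)).restrictScalars k) := by
  rw [isSubcomod_iff_forall_actL]
  intro t ht φ
  show (IsScalarTower.toAlgHom k T R).toLinearMap (actL φ t) ∈ I
  rw [actL_natural _ hTR]
  exact actL_mem_of_isSubcomod hIs φ ht

include hTR in
theorem isSubcomod_map_algebraMap {J : Ideal T} (hJ : IsSubcomod (k := k) (A := A) (J.restrictScalars k)) :
    IsSubcomod (k := k) (A := A) ((J.map (algebraMap T R)).restrictScalars k) := by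
  intro z (hz : z ∈ J.map (algebraMap T R))
  refine Submodule.span_induction (p := fun z _ => Comod.coact (k := k) (A := A) z ∈
    LinearMap.range (((J.map (algebraMap T R)).restrictScalars k).subtype.rTensor A)) ?_ ?_ ?_ ?_ hz
  · rintro _ ⟨j, hj, rfl⟩
    rw [show algebraMap T R j = (IsScalarTower.toAlgHom k T R).toLinearMap j from rfl,
      show Comod.coact (k := k) (A := A) ((IsScalarTower.toAlgHom k T R).toLinearMap j) = _ from
        LinearMap.congr_fun hTR j, LinearMap.comp_apply]
    obtain ⟨w, hw⟩ := hJ j hj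
    rw [← hw]
    clear hw
    induction w using TensorProduct.induction_on with
    | zero => simp
    | tmul p a => exact ⟨⟨algebraMap T R p, Ideal.mem_map_of_mem _ p.2⟩ ⊗ₜ[k] a, by simp⟩
    | add u v hu hv => rw [map_add, map_add]; exact add_mem hu hv
  · rw [map_zero]; exact zero_mem _
  · intro a b _ _ ha hb; rw [map_add]; exact add_mem ha hb
  · intro c a _ ha
    rw [smul_eq_mul, GLin.IsCoactAlg.coact_mul]
    exact mul_mem_range_rTensor (P := R) (H := A) (U := (⊤ : Submodule k R))
      (V := (J.map (algebraMap T R)).restrictScalars k) (W := (J.map (algebraMap T R)).restrictScalars k)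
      (fun u _ v hv => (J.map (algebraMap T R)).mul_mem_left u hv)
      (isSubcomod_top (k := k) (A := A) c Submodule.mem_top) ha

/-- The prime of `R` over a prime of a subring which maps onto `R / I`. -/
theorem exists_prime_over {B : Type u} [CommRing B] (e : B →+* R) (hs : ∀ r : R, ∃ b, r - e b ∈ I)
    (P : Ideal B) [P.IsPrime] (hle : I.comap e ≤ P) : ∃ Q : Ideal R, Q.IsPrime ∧ I ≤ Q ∧ Q.comap e = P := by
  let f := (Ideal.Quotient.mk I).comp e
  have hf : Function.Surjective f := fun y => by
    obtain ⟨r, rfl⟩ := Ideal.Quotient.mk_surjective y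
    obtain ⟨b, hb⟩ := hs r
    exact ⟨b, (Ideal.Quotient.eq.2 hb).symm⟩
  have hker : RingHom.ker f ≤ P := fun b hb => hle (show e b ∈ I from Ideal.Quotient.eq_zero_iff_mem.1 hb)
  haveI : (P.map f).IsPrime := Ideal.map_isPrime_of_surjective hf hker
  refine ⟨(P.map f).comap (Ideal.Quotient.mk I), Ideal.comap_isPrime _ _, fun i hi => ?_, ?_⟩
  · rw [Ideal.mem_comap, Ideal.Quotient.eq_zero_iff_mem.2 hi]
    exact zero_mem _
  · rw [Ideal.comap_comap, Ideal.comap_map_of_surjective _ hf]
    exact sup_eq_left.2 hker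

variable [IsAlgClosed k] [_root_.IsReduced A] [Algebra.FiniteType k A] [Algebra.FiniteType k R]

include hTR hIs hC in
/-- Near a quasi-finite closed stable subscheme, functions become integral. -/
theorem exists_invariant_isIntegral {α : A →ₗ[k] k} (hα : IsIntegral α) (h1 : α 1 = 1)
    (hqf : ∀ (Q : Ideal R) [Q.IsPrime], I ≤ Q → Algebra.QuasiFiniteAt T Q)
    (W : Submodule k R) [Module.Finite k W] (hW : IsSubcomod (k := k) (A := A) W) :
    ∃ b ∈ GLin.invariants k A R, b - 1 ∈ I ∧ ∀ w ∈ W, _root_.IsIntegral T (b * w) := by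
  haveI : Algebra.FiniteType T R := Algebra.FiniteType.of_restrictScalars_finiteType k T R
  let C := integralClosure T R
  let Cs : Submodule k R := (Subalgebra.toSubmodule C).restrictScalars k
  have hCs : IsSubcomod (k := k) (A := A) Cs := H20ZMT.isSubcomod_integralClosure hTR
  let L : Submodule k R := transporter W Cs ⊓ Cs
  have hL : IsSubcomod (k := k) (A := A) L := isSubcomod_inf (isSubcomod_transporter hW hCs) hCs
  let 𝔏 : Ideal C :=
    { carrier := {c | (c : R) ∈ L}
      add_mem' := fun ha hb => L.add_mem ha hb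
      zero_mem' := L.zero_mem
      smul_mem' := fun d c hc => ⟨fun w hw => by
        show (d : R) * (c : R) * w ∈ Cs
        rw [mul_assoc]
        exact C.mul_mem d.2 (hc.1 w hw), C.mul_mem d.2 hc.2⟩ }
  let Ic : Ideal C := I.comap (C.val : C →+* R)
  have htop : 𝔏 ⊔ Ic = ⊤ := by
    by_contra hne
    obtain ⟨P, hP, hle⟩ := Ideal.exists_le_maximal _ hne
    haveI := hP.isPrime
    obtain ⟨Q, hQ, hIQ, hQP⟩ := exists_prime_over (C.val : C →+* R)
      (fun r => by obtain ⟨t, ht⟩ := hC r; exact ⟨algebraMap T C t, ht⟩) P (le_sup_right.trans hle)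
    haveI := hQ
    haveI := hqf Q hIQ
    obtain ⟨r, hr, hri, hrx⟩ := Algebra.zariskisMainProperty_iff.1
      (Algebra.ZariskisMainProperty.of_finiteType (R := T) Q)
    obtain ⟨s, hs⟩ := Module.Finite.iff_fg.1 ‹Module.Finite k W›
    choose m hm using hrx
    let M := s.sup m
    have hmem : r ^ M ∈ L := by
      refine ⟨fun w hw => ?_, hri.pow M⟩
      rw [← hs] at hw
      induction hw using Submodule.span_induction with
      | mem x hx =>
        obtain ⟨d, hd⟩ := Nat.exists_eq_add_of_le (Finset.le_sup hx : m x ≤ M)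
        show r ^ s.sup m * x ∈ Cs
        rw [hd, Nat.add_comm (m x) d, pow_add, mul_assoc]
        exact (hri.pow _).mul (hm x)
      | zero => rw [mul_zero]; exact Cs.zero_mem
      | add x y _ _ hx hy => rw [mul_add]; exact Cs.add_mem hx hy
      | smul c x _ hx => rw [mul_smul_comm]; exact Cs.smul_mem c hx
    have hrC : (⟨r, hri⟩ : C) ^ M ∈ P := hle (Ideal.mem_sup_left (show ((⟨r, hri⟩ : C) ^ M : C).1 ∈ L by
      simpa using hmem))
    have := hP.isPrime.mem_of_pow_mem M hrC
    rw [← hQP] at this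
    exact hr this
  obtain ⟨l, hl, i, hi, hli⟩ := Submodule.mem_sup.1 (htop ▸ Submodule.mem_top : (1 : C) ∈ 𝔏 ⊔ Ic)
  obtain ⟨b, hb, hbL, hb1⟩ := exists_invariant_sub_one_mem hα h1 hL hIs (c := (l : R)) hl (by
    have h := congrArg Subtype.val hli
    simp only [Subalgebra.coe_add, Subalgebra.coe_one] at h
    rw [← h, sub_add_cancel_left]
    exact neg_mem hi)
  exact ⟨b, hb, hb1, hbL.1⟩

include hTR hIs hC in
/-- Near the subscheme the map is surjective on functions. -/
theorem exists_invariant_mul_mem_range {α : A →ₗ[k] k} (hα : IsIntegral α) (h1 : α 1 = 1)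
    (hqf : ∀ (Q : Ideal R) [Q.IsPrime], I ≤ Q → Algebra.QuasiFiniteAt T Q)
    (hsq : I ≤ I ^ 2 ⊔ (I.comap (algebraMap T R)).map (algebraMap T R))
    (hinv : ∀ e ∈ GLin.invariants k A R, ∃ t : T, algebraMap T R t = e) :
    ∃ e ∈ GLin.invariants k A R, e - 1 ∈ I ∧ ∀ r : R, ∃ (n : ℕ) (z : T), algebraMap T R z = e ^ n * r := by
  classical
  haveI : IsNoetherianRing R := Algebra.FiniteType.isNoetherianRing k R
  let J := I.comap (algebraMap T R)
  let K := J.map (algebraMap T R)
  have hKs : IsSubcomod (k := k) (A := A) (K.restrictScalars k) :=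
    isSubcomod_map_algebraMap hTR (isSubcomod_comap_algebraMap hTR hIs)
  obtain ⟨t, ht, htn⟩ := exists_mul_pow_mem (IsNoetherian.noetherian I) hsq
  obtain ⟨τ, hτ, hτP, hτ1⟩ := exists_invariant_sub_one_mem hα h1 (isSubcomod_transporter hIs hKs) hIs
    (c := t) (fun i hi => by
      show t * i ∈ K
      have h := htn 1 i (by rw [pow_one]; exact hi)
      rwa [pow_one, pow_one] at h) ht
  obtain ⟨τ', rfl⟩ := hinv τ hτ
  have hIK : I ≤ K := fun i hi => by
    rw [show i = algebraMap T R (1 - τ') * i + algebraMap T R τ' * i by rw [map_sub, map_one]; ring]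
    refine add_mem (K.mul_mem_right _ (Ideal.mem_map_of_mem _ ?_)) (hτP i hi)
    show algebraMap T R (1 - τ') ∈ I
    rw [map_sub, map_one, ← neg_sub]
    exact neg_mem hτ1
  obtain ⟨X, hX⟩ := Algebra.FiniteType.out (R := k) (A := R)
  obtain ⟨W, hWf, hXW, hWs⟩ := exists_finite_subcomod (k := k) (A := A) (V := R) X.finite_toSet
  haveI := hWf
  obtain ⟨b, hb, hb1, hbW⟩ := exists_invariant_isIntegral hTR hIs hC hα h1 hqf W hWs
  obtain ⟨β, hβ⟩ := hinv b hb
  obtain ⟨s, hs⟩ := Module.Finite.iff_fg.1 hWf
  let D : Subalgebra T R := Algebra.adjoin T ((fun w => b * w) '' (s : Set R))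
  have hDfg : (Subalgebra.toSubmodule D).FG := fg_adjoin_of_finite (s.finite_toSet.image _) (by
    rintro _ ⟨w, hw, rfl⟩
    exact hbW w (hs ▸ Submodule.subset_span hw))
  have hDW : ∀ w ∈ W, b * w ∈ D := by
    intro w hw
    rw [← hs] at hw
    induction hw using Submodule.span_induction with
    | mem x hx => exact Algebra.subset_adjoin ⟨x, hx, rfl⟩
    | zero => rw [mul_zero]; exact D.zero_mem
    | add x y _ _ hx hy => rw [mul_add]; exact D.add_mem hx hy
    | smul c x _ hx =>
      rw [mul_smul_comm, ← algebraMap_smul T c (b * x)]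
      exact D.smul_mem hx _
  have hbD : b ∈ D := hβ ▸ D.algebraMap_mem β
  have hgen : ∀ r, ∃ n : ℕ, b ^ n * r ∈ D :=
    exists_pow_mul_mem_of_generators (D.restrictScalars k) hbD hX fun x hx => hDW x (hXW hx)
  set N := Subalgebra.toSubmodule D
  set P := LinearMap.range (Algebra.linearMap T R)
  have hkey : N ≤ P ⊔ J • N := by
    intro c (hc : c ∈ D)
    obtain ⟨s', hs'⟩ := hC c
    have hi : ∃ n : ℕ, b ^ n * (c - algebraMap T R s') ∈ J • N := by
      have hmem : c - algebraMap T R s' ∈ J • (⊤ : Submodule T R) := by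
        rw [Ideal.smul_top_eq_map]; exact hIK hs'
      refine Submodule.smul_induction_on hmem (fun j hj r _ => ?_) (fun u v hu hv => ?_)
      · obtain ⟨n, hn⟩ := hgen r
        exact ⟨n, by rw [mul_smul_comm]; exact Submodule.smul_mem_smul hj hn⟩
      · obtain ⟨n, hn⟩ := hu
        obtain ⟨m, hm⟩ := hv
        refine ⟨n + m, ?_⟩
        have hstab : ∀ (l : ℕ) (x : R), x ∈ J • N → b ^ l * x ∈ J • N := fun l x hx => by
          rw [← hβ, ← map_pow, ← Algebra.smul_def]
          exact Submodule.smul_mem _ _ hx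
        rw [mul_add, show b ^ (n + m) * u = b ^ m * (b ^ n * u) by ring,
          show b ^ (n + m) * v = b ^ n * (b ^ m * v) by ring]
        exact add_mem (hstab m _ hn) (hstab n _ hm)
    obtain ⟨n, hn⟩ := hi
    have h1' : 1 - β ^ n ∈ J := by
      show algebraMap T R (1 - β ^ n) ∈ I
      rw [map_sub, map_one, map_pow, hβ, ← neg_sub]
      exact neg_mem (Ideal.mem_of_dvd _ (sub_one_dvd_pow_sub_one b n) hb1)
    rw [show c = algebraMap T R (β ^ n * s') + ((1 - β ^ n) • c + b ^ n * (c - algebraMap T R s')) by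
      rw [Algebra.smul_def, map_sub, map_one, map_mul, map_pow, hβ]; ring]
    exact add_mem (Submodule.mem_sup_left ⟨_, rfl⟩)
      (Submodule.mem_sup_right (add_mem (Submodule.smul_mem_smul h1' hc) hn))
  obtain ⟨u, hu, hkill⟩ := Submodule.exists_sub_one_mem_and_smul_eq_zero_of_fg_of_le_smul J (N.map P.mkQ)
    (hDfg.map _) (by
      rw [← Submodule.map_smul'']
      rintro _ ⟨c, hc, rfl⟩
      obtain ⟨p, hp, q, hq, rfl⟩ := Submodule.mem_sup.1 (hkey hc)
      exact ⟨q, hq, by rw [map_add, show P.mkQ p = 0 from (Submodule.Quotient.mk_eq_zero P).2 hp, zero_add]⟩)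
  let Ps := LinearMap.range (IsScalarTower.toAlgHom k T R).toLinearMap
  obtain ⟨e, he, heP, he1⟩ := exists_invariant_sub_one_mem hα h1
    (isSubcomod_transporter hWs (isSubcomod_range_of_isComodHom hTR : IsSubcomod (k := k) (A := A) Ps)) hIs
    (c := algebraMap T R u * b) (fun w hw => by
      have h0 := hkill _ ⟨b * w, hDW w hw, rfl⟩
      rw [← map_smul, Submodule.mkQ_apply, Submodule.Quotient.mk_eq_zero] at h0
      obtain ⟨z, hz⟩ := h0
      exact ⟨z, by rw [mul_assoc, ← Algebra.smul_def]; exact hz⟩) (by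
      rw [show algebraMap T R u * b - 1 = algebraMap T R u * (b - 1) + algebraMap T R (u - 1) by
        rw [map_sub, map_one]; ring]
      exact add_mem (I.mul_mem_left _ hb1) hu)
  refine ⟨e, he, he1, fun r => ?_⟩
  obtain ⟨n, hn⟩ := exists_pow_mul_mem_of_generators (IsScalarTower.toAlgHom k T R).range (hinv e he) hX
    (fun x hx => heP x (hXW hx)) r
  exact ⟨n, hn⟩

include hTR hIs hC in
/-- Near a subscheme where the map is étale, it is injective on functions. -/
theorem exists_invariant_mul_ker {α : A →ₗ[k] k} (hα : IsIntegral α) (h1 : α 1 = 1) [Algebra.FiniteType k T]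
    (het : ∀ (Q : Ideal R) [Q.IsPrime], I ≤ Q → Algebra.IsEtaleAt T Q) :
    ∃ u ∈ GLin.invariants k A T, algebraMap T R u - 1 ∈ I ∧ ∀ z, algebraMap T R z = 0 → u * z = 0 := by
  classical
  haveI : IsNoetherianRing T := Algebra.FiniteType.isNoetherianRing k T
  haveI : Algebra.FiniteType T R := Algebra.FiniteType.of_restrictScalars_finiteType k T R
  set J := I.comap (algebraMap T R)
  set Z := RingHom.ker (algebraMap T R)
  obtain ⟨s, hs⟩ := IsNoetherian.noetherian Z
  have htop : Z.annihilator ⊔ J = ⊤ := by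
    by_contra hne
    obtain ⟨P, hP, hle⟩ := Ideal.exists_le_maximal _ hne
    haveI := hP.isPrime
    obtain ⟨Q, hQ, hIQ, hQP⟩ := exists_prime_over (algebraMap T R) hC P (le_sup_right.trans hle)
    haveI := hQ
    haveI : Q.LiesOver P := ⟨hQP.symm⟩
    let := Localization.AtPrime.algebraOfLiesOver P Q
    obtain ⟨hflat, hmap, -, -⟩ := (Groth.Agent.S9560.result T R P Q).1 (het Q hIQ)
    haveI := hflat
    haveI : IsLocalHom (algebraMap (Localization.AtPrime P) (Localization.AtPrime Q)) := by
      refine ((IsLocalRing.local_hom_TFAE (algebraMap (Localization.AtPrime P) (Localization.AtPrime Q))).out 0 2).2 ?_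
      rw [← Localization.AtPrime.map_eq_maximalIdeal (I := P), Ideal.map_map, ← IsScalarTower.algebraMap_eq]
      exact hmap.le
    haveI : Module.FaithfullyFlat (Localization.AtPrime P) (Localization.AtPrime Q) :=
      Module.FaithfullyFlat.of_flat_of_isLocalHom
    have hloc : ∀ z ∈ Z, ∃ v : T, v ∉ P ∧ v * z = 0 := fun z hz => by
      have h0 : algebraMap T (Localization.AtPrime P) z = 0 := by
        apply FaithfulSMul.algebraMap_injective (Localization.AtPrime P) (Localization.AtPrime Q)
        rw [map_zero, ← IsScalarTower.algebraMap_apply, IsScalarTower.algebraMap_apply T R (Localization.AtPrime Q),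
          show algebraMap T R z = 0 from hz, map_zero]
      obtain ⟨⟨v, hv⟩, hvz⟩ := (IsLocalization.map_eq_zero_iff P.primeCompl (Localization.AtPrime P) z).1 h0
      exact ⟨v, hv, hvz⟩
    choose v hv hvz using hloc
    have hsZ : ∀ z : s, (z : T) ∈ Z := fun z => hs ▸ Submodule.subset_span z.2
    have hprod : (∏ z : s, v z (hsZ z)) ∈ Z.annihilator := by
      rw [Submodule.mem_annihilator]
      intro z hz
      rw [← hs] at hz
      induction hz using Submodule.span_induction with
      | mem x hx =>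
        rw [smul_eq_mul, Fintype.prod_eq_prod_compl_mul (⟨x, hx⟩ : s), mul_assoc, hvz _ (hsZ ⟨x, hx⟩), mul_zero]
      | zero => rw [smul_zero]
      | add x y _ _ hx hy => rw [smul_add, hx, hy, add_zero]
      | smul c x _ hx => rw [smul_comm, hx, smul_zero]
    obtain ⟨z, -, hz⟩ := hP.isPrime.prod_mem_iff.1 (hle (Ideal.mem_sup_left hprod))
    exact hv _ (hsZ z) hz
  obtain ⟨a, ha, j, hj, haj⟩ := Submodule.mem_sup.1 (htop ▸ Submodule.mem_top : (1 : T) ∈ Z.annihilator ⊔ J)
  have hZs : IsSubcomod (k := k) (A := A) (LinearMap.ker (IsScalarTower.toAlgHom k T R).toLinearMap) :=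
    isSubcomod_ker_of_isComodHom hTR
  obtain ⟨u, hu, huP, hu1⟩ := exists_invariant_sub_one_mem hα h1 (isSubcomod_transporter hZs isSubcomod_bot)
    (isSubcomod_comap_algebraMap hTR hIs) (c := a)
    (fun z hz => (Submodule.mem_bot k).2 (Submodule.mem_annihilator.1 ha z hz))
    (by rw [← haj, sub_add_cancel_left]; exact neg_mem hj)
  refine ⟨u, hu, ?_, fun z hz => (Submodule.mem_bot k).1 (huP z hz)⟩
  rw [← map_one (algebraMap T R), ← map_sub]
  exact hu1

end

end Groth.Agent.H20Luna
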