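import Groth.Agent.H20Luna.Orbit
import Mathlib.RingTheory.Localization.Integral
import Mathlib.RingTheory.Algebraic.Integral
import Mathlib.RingTheory.Unramified.LocalStructure

/-!
An orbit over a closed orbit, along which the map is étale, is closed.
-/

set_option autoImplicit false
set_option linter.style.haveILetI false
set_option linter.unusedSectionVars false
set_option backward.isDefEq.respectTransparency false
set_option maxHeartbeats 800000
set_option synthInstance.maxHeartbeats 100000

universe u

open TensorProduct HopfRep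
open Groth.Agent.H20Comod Groth.Agent.H20Comod.OrbitPrimes

namespace Groth.Agent.H20Luna

noncomputable section

/-- Above an unramified prime no nonzero function vanishes on a prime with the same trace on the base. -/
theorem le_of_comap_le_of_isUnramifiedAt {S R : Type u} [CommRing S] [CommRing R] [Algebra S R]
    [Algebra.FiniteType S R] (I P : Ideal R) [I.IsPrime] [P.IsPrime] [Algebra.IsUnramifiedAt S I] (hIP : I ≤ P)
    (hP : P.comap (algebraMap S R) ≤ I.comap (algebraMap S R)) : P ≤ I := by
  intro f hf
  by_contra hfI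
  let p := I.comap (algebraMap S R)
  haveI : p.IsPrime := Ideal.comap_isPrime _ _
  haveI : I.LiesOver p := ⟨rfl⟩
  let := Localization.AtPrime.algebraOfLiesOver p I
  haveI : Algebra.QuasiFinite S (Localization.AtPrime I) := inferInstance
  haveI : Algebra.QuasiFiniteAt S I := ‹_›
  haveI : Module.Finite p.ResidueField I.ResidueField := inferInstance
  haveI : Algebra.IsAlgebraic p.ResidueField I.ResidueField := Algebra.IsAlgebraic.of_finite _ _
  letI : Algebra (S ⧸ p) (R ⧸ I) := (Ideal.quotientMap I (algebraMap S R) le_rfl).toAlgebra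
  letI : Algebra (S ⧸ p) I.ResidueField :=
    ((algebraMap p.ResidueField I.ResidueField).comp (algebraMap (S ⧸ p) p.ResidueField)).toAlgebra
  haveI : IsScalarTower (S ⧸ p) p.ResidueField I.ResidueField := IsScalarTower.of_algebraMap_eq fun _ => rfl
  have hinj : Function.Injective (algebraMap (R ⧸ I) I.ResidueField) :=
    Ideal.injective_algebraMap_quotient_residueField I
  haveI : IsScalarTower (S ⧸ p) (R ⧸ I) I.ResidueField := by
    refine IsScalarTower.of_algebraMap_eq fun c => ?_
    obtain ⟨c, rfl⟩ := Ideal.Quotient.mk_surjective c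
    show algebraMap p.ResidueField I.ResidueField (algebraMap (S ⧸ p) p.ResidueField (Ideal.Quotient.mk p c)) =
      algebraMap (R ⧸ I) I.ResidueField (Ideal.Quotient.mk I (algebraMap S R c))
    rw [← Ideal.Quotient.algebraMap_eq, ← Ideal.Quotient.algebraMap_eq,
      ← IsScalarTower.algebraMap_apply S (S ⧸ p) p.ResidueField,
      ← IsScalarTower.algebraMap_apply R (R ⧸ I) I.ResidueField,
      ← IsScalarTower.algebraMap_apply S p.ResidueField I.ResidueField,
      ← IsScalarTower.algebraMap_apply S R I.ResidueField]
  have halg : IsAlgebraic (S ⧸ p) (algebraMap (R ⧸ I) I.ResidueField (Ideal.Quotient.mk I f)) :=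
    (IsFractionRing.isAlgebraic_iff (S ⧸ p) p.ResidueField I.ResidueField).2
      (Algebra.IsAlgebraic.isAlgebraic _)
  rw [isAlgebraic_algebraMap_iff hinj] at halg
  obtain ⟨r, hr, hdvd⟩ := halg.exists_nonzero_dvd
    (mem_nonZeroDivisors_of_ne_zero fun h => hfI (Ideal.Quotient.eq_zero_iff_mem.1 h))
  obtain ⟨s, rfl⟩ := Ideal.Quotient.mk_surjective r
  obtain ⟨w, hw⟩ := hdvd
  obtain ⟨w, rfl⟩ := Ideal.Quotient.mk_surjective w
  have h2 : algebraMap S R s - f * w ∈ I := by
    rw [← Ideal.Quotient.eq, map_mul]
    exact hw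
  refine hr (Ideal.Quotient.eq_zero_iff_mem.2 (hP ?_))
  show algebraMap S R s ∈ P
  simpa using add_mem (hIP h2) (P.mul_mem_right w hf)

variable {k : Type u} [Field k] [IsAlgClosed k] {A : Type u} [CommRing A] [IsDomain A] [HopfAlgebra k A]
  [Algebra.FiniteType k A]
  {S R : Type u} [CommRing S] [Algebra k S] [Algebra.FiniteType k S] [Comod k A S] [GLin.IsCoactAlg k A S]
  [CommRing R] [Algebra k R] [Algebra.FiniteType k R] [Comod k A R] [GLin.IsCoactAlg k A R]
  [Algebra S R] [IsScalarTower k S R]

/-- An orbit over a closed orbit, along which the map is étale, is closed. -/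
theorem isClosedOrbit_of_isClosedOrbit_map
    (hequiv : ∀ s : S, Comod.coact (k := k) (A := A) (algebraMap S R s) =
      Algebra.TensorProduct.map (IsScalarTower.toAlgHom k S R) (AlgHom.id k A) (Comod.coact (k := k) (A := A) s))
    (x : R →ₐ[k] k) [(RingHom.ker x).IsPrime] (het : Algebra.IsEtaleAt S (RingHom.ker x))
    (hy : GLin.IsClosedOrbit k A (x.comp (IsScalarTower.toAlgHom k S R))) : GLin.IsClosedOrbit k A x := by
  haveI : IsNoetherianRing S := Algebra.FiniteType.isNoetherianRing k S
  haveI : Algebra.FiniteType S R := Algebra.FiniteType.of_restrictScalars_finiteType k S R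
  haveI : Algebra.FinitePresentation S R := Algebra.FinitePresentation.of_finiteType.mp inferInstance
  haveI hI : (RingHom.ker (GLin.orbitHom k A x)).IsPrime := RingHom.ker_isPrime _
  haveI hetI : Algebra.IsEtaleAt S (RingHom.ker (GLin.orbitHom k A x)) :=
    ((PrimeSpectrum.le_iff_specializes (⟨_, hI⟩ : PrimeSpectrum R) ⟨RingHom.ker x, ‹_›⟩).1
      (ker_orbitHom_le_ker x)).mem_open Algebra.isOpen_etaleLocus het
  haveI : Algebra.IsUnramifiedAt S (RingHom.ker (GLin.orbitHom k A x)) := by
    show Algebra.FormallyUnramified S (Localization.AtPrime (RingHom.ker (GLin.orbitHom k A x)))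
    infer_instance
  refine isClosedOrbit_of_forall x fun z hz => ?_
  haveI : (RingHom.ker (GLin.orbitHom k A z)).IsPrime := RingHom.ker_isPrime _
  set y := x.comp (IsScalarTower.toAlgHom k S R)
  obtain ⟨g, hg⟩ := exists_actPt_eq_of_isClosedOrbit hy (z := z.comp (IsScalarTower.toAlgHom k S R)) fun s hs => by
    show z (algebraMap S R s) = 0
    refine hz ?_
    rw [RingHom.mem_ker, orbitHom_algebraMap hequiv x]
    exact hs
  have hle := ker_orbitHom_le x hz
  have heq : RingHom.ker (GLin.orbitHom k A z) = RingHom.ker (GLin.orbitHom k A x) := by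
    refine le_antisymm (le_of_comap_le_of_isUnramifiedAt (S := S) _ _ hle fun s hs => ?_) hle
    simp only [Ideal.mem_comap, RingHom.mem_ker, orbitHom_algebraMap hequiv x,
      orbitHom_algebraMap hequiv z] at hs ⊢
    rw [hg] at hs
    exact (SetLike.ext_iff.1 (ker_orbitHom_actPt y g) s).1 hs
  exact exists_actPt_eq_of_comap_eq x z ⊥ ⊥ heq.symm

end

end Groth.Agent.H20Luna
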