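import Groth.Agent.H20Luna.Orbit
import Groth.Agent.H20Comod.HilbertFG

/-!
Completions of invariant rings along closed orbits: Luna's lemma on étale quotient maps.
-/

set_option autoImplicit false
set_option linter.style.haveILetI false
set_option linter.unusedSectionVars false
set_option backward.isDefEq.respectTransparency false
set_option maxHeartbeats 400000

universe u

open TensorProduct HopfRep
open Groth.Agent.H20Comod Groth.Agent.H20Comod.OrbitPrimes

namespace Groth.Agent.H20Luna

noncomputable section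

variable {k : Type u} [Field k] {A : Type u} [CommRing A] [HopfAlgebra k A]
  {R : Type u} [CommRing R] [Algebra k R] [Comod k A R] [GLin.IsCoactAlg k A R]

theorem isSubcomod_pow {I : Ideal R} (hI : IsSubcomod (k := k) (A := A) (I.restrictScalars k)) (n : ℕ) :
    IsSubcomod (k := k) (A := A) ((I ^ n).restrictScalars k) := by
  induction n with
  | zero =>
    intro v _
    exact LinearMap.mem_range.2 (LinearMap.rTensor_surjective A (g := ((I ^ 0).restrictScalars k).subtype)
      (fun r => ⟨⟨r, by simp⟩, rfl⟩) _)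
  | succ n ih =>
    intro v (hv : v ∈ I ^ (n + 1))
    rw [pow_succ] at hv
    refine Submodule.mul_induction_on hv (fun a ha b hb => ?_) (fun a b ha hb => by rw [map_add]; exact add_mem ha hb)
    rw [GLin.IsCoactAlg.coact_mul]
    refine mul_mem_range_rTensor (fun u hu w hw => ?_) (ih a ha) (hI b hb)
    show u * w ∈ I ^ (n + 1)
    rw [pow_succ]
    exact Ideal.mul_mem_mul hu hw

variable [IsNoetherianRing R]

/-- Chevalley's lemma for the invariants along a stable closed subscheme over a point of the quotient. -/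
theorem exists_comap_pow_le_invariants {α : A →ₗ[k] k} (hα : IsIntegral α) (h1 : α 1 = 1) {I : Ideal R}
    (hI : IsSubcomod (k := k) (A := A) (I.restrictScalars k))
    [hmax : (I.comap (algebraMap (GLin.invariants k A R) R)).IsMaximal] (n : ℕ) :
    ∃ N : ℕ, (I ^ N).comap (algebraMap (GLin.invariants k A R) R) ≤
      (I.comap (algebraMap (GLin.invariants k A R) R)) ^ n := by
  haveI := isNoetherianRing_invariants (k := k) (A := A) (R := R) hα h1
  set C := GLin.invariants k A R
  set ι := algebraMap C R
  set p := I.comap ι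
  haveI : IsArtinianRing (C ⧸ p ^ n) := by
    refine isArtinianRing_iff_isNoetherianRing_krullDimLE_zero.2 ⟨inferInstance, Ring.krullDimLE_zero_iff.2 fun q hq => ?_⟩
    haveI := hq
    have hle : p ≤ q.comap (Ideal.Quotient.mk (p ^ n)) := by
      rcases Nat.eq_zero_or_pos n with rfl | hn
      · haveI : Subsingleton (C ⧸ p ^ 0) := by
          rw [Ideal.Quotient.subsingleton_iff]; simp
        exact absurd (Subsingleton.elim q ⊤) hq.ne_top
      refine ((Ideal.comap_isPrime _ q).pow_le_iff hn.ne').1 fun a ha => ?_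
      rw [Ideal.mem_comap, Ideal.Quotient.eq_zero_iff_mem.2 ha]
      exact q.zero_mem
    have he : q.comap (Ideal.Quotient.mk (p ^ n)) = p :=
      (hmax.eq_of_le (Ideal.comap_isPrime _ q).ne_top hle).symm
    have hq' : q = p.map (Ideal.Quotient.mk (p ^ n)) := by
      conv_lhs => rw [← Ideal.map_comap_of_surjective _ Ideal.Quotient.mk_surjective q, he]
    rw [hq']
    exact (Ideal.map_eq_top_or_isMaximal_of_surjective _ Ideal.Quotient.mk_surjective hmax).resolve_left fun h =>
      hq.ne_top (hq'.trans h)
  let f : ℕ →o (Submodule (C ⧸ p ^ n) (C ⧸ p ^ n))ᵒᵈ :=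
    ⟨fun N => OrderDual.toDual (((I ^ N).comap ι).map (Ideal.Quotient.mk (p ^ n))), fun a b hab =>
      Ideal.map_mono (Ideal.comap_mono (Ideal.pow_le_pow_right hab))⟩
  obtain ⟨N, hN⟩ := IsArtinian.monotone_stabilizes f
  refine ⟨N, fun u hu => ?_⟩
  set K := (p ^ n).map ι
  have hmem : ∀ M, (u : R) ∈ I ^ M ⊔ K := fun M => by
    have h2 : Ideal.Quotient.mk (p ^ n) u ∈ ((I ^ M).comap ι).map (Ideal.Quotient.mk (p ^ n)) := by
      rcases le_total N M with h | h
      · have := hN M h
        change OrderDual.toDual _ = OrderDual.toDual _ at this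
        exact (OrderDual.toDual_inj.1 this) ▸ Ideal.mem_map_of_mem _ hu
      · exact Ideal.mem_map_of_mem _ (Ideal.comap_mono (Ideal.pow_le_pow_right h) hu)
    rw [Ideal.mem_quotient_iff_mem_sup, ← comap_sup_map_invariants_eq hα h1 (isSubcomod_pow hI M)] at h2
    exact h2
  have hk : Ideal.Quotient.mk K (u : R) ∈
      ⨅ M : ℕ, (I.map (Ideal.Quotient.mk K)) ^ M • (⊤ : Submodule (R ⧸ K) (R ⧸ K)) := by
    refine (Submodule.mem_iInf _).2 fun M => ?_
    rw [smul_eq_mul, Ideal.mul_top, ← Ideal.map_pow, Ideal.mem_quotient_iff_mem_sup]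
    exact hmem M
  obtain ⟨⟨i', hi'⟩, hiu⟩ := (Ideal.mem_iInf_smul_pow_eq_bot_iff _ _).1 hk
  obtain ⟨i, hi, rfl⟩ := (Ideal.mem_map_iff_of_surjective _ Ideal.Quotient.mk_surjective).1 hi'
  rw [smul_eq_mul, ← map_mul, Ideal.Quotient.eq] at hiu
  have h3 : u * reynoldsInv hα h1 i - u ∈ p ^ n := by
    rw [← comap_map_invariants_eq hα h1 (p ^ n), Ideal.mem_comap]
    have h4 : actL α (i * (u : R) - u) = (u : R) * actL α i - u := by
      rw [map_sub, mul_comm i, actL_mul_of_fixed α u.2, actL_eq_self_of_fixed h1 u.2]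
    have hK : IsSubcomod (k := k) (A := A) (K.restrictScalars k) := by
      intro z (hz : z ∈ K)
      have hz' : z ∈ p ^ n • (⊤ : Submodule C R) := by rw [Ideal.smul_top_eq_map]; exact hz
      refine Submodule.smul_induction_on hz' (fun c hc r _ => ?_) (fun a b ha hb => by rw [map_add]; exact add_mem ha hb)
      rw [show c • r = (c : R) * r from rfl, GLin.IsCoactAlg.coact_mul,
        show Comod.coact (k := k) (A := A) (c : R) = (c : R) ⊗ₜ[k] (1 : A) from c.2]
      generalize Comod.coact (k := k) (A := A) r = w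
      induction w using TensorProduct.induction_on with
      | zero => simp
      | tmul a b =>
        refine ⟨⟨(c : R) * a, K.mul_mem_right a (Ideal.mem_map_of_mem ι hc)⟩ ⊗ₜ[k] b, ?_⟩
        simp
      | add a b ha hb => rw [mul_add]; exact add_mem ha hb
    have h5 := actL_mem_of_isSubcomod hK α (show i * (u : R) - u ∈ K.restrictScalars k from hiu)
    rw [h4] at h5
    exact h5
  have h6 : reynoldsInv hα h1 i ∈ p := by
    show (reynoldsInv hα h1 i : R) ∈ I
    exact actL_mem_of_isSubcomod hI α (show i ∈ I.restrictScalars k from hi)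
  rcases Nat.eq_zero_or_pos n with rfl | hn
  · simp
  have hprim : (p ^ n).IsPrimary := Ideal.isPrimary_of_isMaximal_radical (by
    rw [Ideal.radical_pow _ hn.ne', hmax.isPrime.radical]; exact hmax)
  rw [show u * reynoldsInv hα h1 i - u = u * (reynoldsInv hα h1 i - 1) by ring] at h3
  refine ((Ideal.isPrimary_iff.1 hprim).2 h3).resolve_right fun h => ?_
  rw [Ideal.radical_pow _ hn.ne', hmax.isPrime.radical] at h
  exact hmax.ne_top ((Ideal.eq_top_iff_one p).2 (by simpa using sub_mem h6 h))

/-- Chevalley's lemma, for a ring identified with the invariants. -/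
theorem exists_comap_pow_le {α : A →ₗ[k] k} (hα : IsIntegral α) (h1 : α 1 = 1) {I : Ideal R}
    (hI : IsSubcomod (k := k) (A := A) (I.restrictScalars k))
    {R₀ : Type u} [CommRing R₀] [Algebra k R₀] [Algebra R₀ R] [IsScalarTower k R₀ R]
    (hR₀i : Function.Injective (algebraMap R₀ R))
    (hR₀ : (IsScalarTower.toAlgHom k R₀ R).range = GLin.invariants k A R)
    [hmax : (I.comap (algebraMap R₀ R)).IsMaximal] (n : ℕ) :
    ∃ N : ℕ, (I ^ N).comap (algebraMap R₀ R) ≤ (I.comap (algebraMap R₀ R)) ^ n := by
  let e : R₀ ≃+* GLin.invariants k A R :=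
    ((AlgEquiv.ofInjective (IsScalarTower.toAlgHom k R₀ R) hR₀i).trans (Subalgebra.equivOfEq _ _ hR₀)).toRingEquiv
  have he : (algebraMap (GLin.invariants k A R) R).comp (e : R₀ →+* GLin.invariants k A R) = algebraMap R₀ R := rfl
  have hp : (I.comap (algebraMap (GLin.invariants k A R) R)).comap (e : R₀ →+* GLin.invariants k A R) =
      I.comap (algebraMap R₀ R) := by rw [Ideal.comap_comap, he]
  haveI : (I.comap (algebraMap (GLin.invariants k A R) R)).IsMaximal := by
    have h := Ideal.map_isMaximal_of_equiv e (p := I.comap (algebraMap R₀ R))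
    rw [← hp] at h
    rwa [show ((I.comap (algebraMap (GLin.invariants k A R) R)).comap (e : R₀ →+* GLin.invariants k A R)).map e =
      I.comap (algebraMap (GLin.invariants k A R) R) from Ideal.map_comap_of_surjective _ e.surjective _] at h
  obtain ⟨N, hN⟩ := exists_comap_pow_le_invariants hα h1 hI n
  refine ⟨N, fun a ha => ?_⟩
  have h1 := hN (show e a ∈ (I ^ N).comap (algebraMap (GLin.invariants k A R) R) from ha)
  have h2 := Ideal.mem_map_of_mem (e.symm : GLin.invariants k A R →+* R₀) h1
  rw [Ideal.map_pow] at h2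
  rw [← hp]
  rw [show (e.symm : GLin.invariants k A R →+* R₀) (e a) = a from e.symm_apply_apply a] at h2
  convert! h2 using 2
  exact (Ideal.map_symm e).symm

end

end Groth.Agent.H20Luna
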