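import Groth.Agent.S9560
import Groth.Agent.H7Flat.LocalCriterion
import Mathlib.RingTheory.Etale.Locus
import Mathlib.RingTheory.Unramified.Locus
import Mathlib.RingTheory.Nakayama
import Mathlib.RingTheory.Filtration
import Mathlib.RingTheory.Kaehler.Basic

/-!
Étaleness at a point from congruences modulo all powers of the maximal ideal, and congruences
modulo powers of the ideal of a closed subscheme along which a morphism is étale and bijective.
-/

set_option autoImplicit false
set_option linter.style.haveILetI false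

universe u

open TensorProduct

namespace Groth.Agent.H20Luna

noncomputable section

set_option maxHeartbeats 400000

section Local

variable {A L : Type u} [CommRing A] [IsNoetherianRing A] [IsLocalRing A] [CommRing L] [IsNoetherianRing L]
  [IsLocalRing L] [Algebra A L] [IsLocalHom (algebraMap A L)]

open IsLocalRing

/-- A local map which is bijective modulo all powers of the maximal ideals is flat. -/
theorem flat_of_congr_pow
    (hsurj : ∀ (l : L) (n : ℕ), ∃ a : A, l - algebraMap A L a ∈ maximalIdeal L ^ n)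
    (hinj : ∀ n : ℕ, ∃ N : ℕ, ∀ a : A, algebraMap A L a ∈ maximalIdeal L ^ N → a ∈ maximalIdeal A ^ n) :
    Module.Flat A L := by
  refine H7Flat.flat_of_injective (S := L) (M := L) ?_
  rw [injective_iff_map_eq_zero]
  intro w hw
  let m := maximalIdeal A
  have key : ∀ n : ℕ, w ∈ maximalIdeal L ^ n • (⊤ : Submodule L (L ⊗[A] m)) := by
    intro n
    obtain ⟨N, hN⟩ := hinj (n + 1)
    let N' := max n N
    have hrep : ∀ z : L ⊗[A] m, ∃ a : m, z - (1 : L) ⊗ₜ[A] a ∈ maximalIdeal L ^ N' • (⊤ : Submodule L (L ⊗[A] m)) := by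
      intro z
      induction z using TensorProduct.induction_on with
      | zero => exact ⟨0, by simp⟩
      | tmul l y =>
        obtain ⟨c, hc⟩ := hsurj l N'
        refine ⟨c • y, ?_⟩
        have e : l ⊗ₜ[A] y - (1 : L) ⊗ₜ[A] (c • y) = (l - algebraMap A L c) • ((1 : L) ⊗ₜ[A] y) := by
          rw [TensorProduct.smul_tmul', smul_eq_mul, mul_one, TensorProduct.sub_tmul, TensorProduct.tmul_smul,
            TensorProduct.smul_tmul', Algebra.smul_def, mul_one]
        rw [e]
        exact Submodule.smul_mem_smul hc trivial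
      | add x y hx hy =>
        obtain ⟨a, ha⟩ := hx
        obtain ⟨b, hb⟩ := hy
        refine ⟨a + b, ?_⟩
        rw [TensorProduct.tmul_add, add_sub_add_comm]
        exact add_mem ha hb
    obtain ⟨a, ha⟩ := hrep w
    let g : L ⊗[A] m →ₗ[L] L :=
      (TensorProduct.AlgebraTensorModule.rid A L L).toLinearMap ∘ₗ (m.subtype).baseChange L
    have hgw : g w = 0 := by
      show TensorProduct.AlgebraTensorModule.rid A L L ((m.subtype).lTensor L w) = 0
      rw [hw, map_zero]
    have h1 : g (w - (1 : L) ⊗ₜ[A] a) ∈ maximalIdeal L ^ N' :=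
      Submodule.smul_induction_on ha
        (fun c hc x _ => by rw [map_smul, smul_eq_mul]; exact Ideal.mul_mem_right _ _ hc)
        (fun x y hx hy => by rw [map_add]; exact add_mem hx hy)
    have h3 : algebraMap A L (a : A) ∈ maximalIdeal L ^ N := by
      refine Ideal.pow_le_pow_right (le_max_right n N) ?_
      rw [map_sub, hgw, zero_sub, neg_mem_iff] at h1
      simpa [g, Algebra.smul_def] using h1
    have h5 : a ∈ m ^ n • (⊤ : Submodule A m) := by
      refine (Submodule.mem_smul_top_iff _ _ a).2 ?_
      have := hN _ h3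
      rwa [pow_succ] at this
    have h6 : (1 : L) ⊗ₜ[A] a ∈ maximalIdeal L ^ n • (⊤ : Submodule L (L ⊗[A] m)) := by
      refine Submodule.smul_induction_on h5 (fun c hc y _ => ?_) (fun x y hx hy => ?_)
      · rw [TensorProduct.tmul_smul, ← algebraMap_smul L c ((1 : L) ⊗ₜ[A] y)]
        refine Submodule.smul_mem_smul ?_ trivial
        have hle : (maximalIdeal A).map (algebraMap A L) ≤ maximalIdeal L :=
          Ideal.map_le_iff_le_comap.2 (IsLocalRing.maximalIdeal_comap (algebraMap A L)).ge
        exact Ideal.pow_right_mono hle n (by rw [← Ideal.map_pow]; exact Ideal.mem_map_of_mem _ hc)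
      · rw [TensorProduct.tmul_add]
        exact add_mem hx hy
    have h7 := add_mem (Submodule.smul_mono_left (Ideal.pow_le_pow_right (le_max_left n N)) ha) h6
    rwa [sub_add_cancel] at h7
  have hb := Ideal.iInf_pow_smul_eq_bot_of_isLocalRing (M := L ⊗[A] m) (maximalIdeal L)
    (maximalIdeal.isMaximal L).ne_top
  have : w ∈ ⨅ n : ℕ, maximalIdeal L ^ n • (⊤ : Submodule L (L ⊗[A] m)) := (Submodule.mem_iInf _).2 key
  rwa [hb, Submodule.mem_bot] at this

omit [IsNoetherianRing A] in
theorem map_maximalIdeal_of_congr_pow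
    (hsurj : ∀ l : L, ∃ a : A, l - algebraMap A L a ∈ maximalIdeal L ^ 2) :
    (maximalIdeal A).map (algebraMap A L) = maximalIdeal L := by
  have hle : (maximalIdeal A).map (algebraMap A L) ≤ maximalIdeal L :=
    Ideal.map_le_iff_le_comap.2 (IsLocalRing.maximalIdeal_comap (algebraMap A L)).ge
  refine le_antisymm hle (Submodule.le_of_le_smul_of_le_jacobson_bot (IsNoetherian.noetherian _)
    (IsLocalRing.maximalIdeal_le_jacobson (R := L) ⊥) fun b hb => ?_)
  obtain ⟨a, ha⟩ := hsurj b
  have hab : algebraMap A L a ∈ maximalIdeal L := by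
    have := sub_mem hb (Ideal.pow_le_self two_ne_zero ha)
    rwa [sub_sub_cancel] at this
  have ham : a ∈ maximalIdeal A := fun hu => hab (hu.map (algebraMap A L))
  refine Submodule.mem_sup.2 ⟨algebraMap A L a, Ideal.mem_map_of_mem _ ham, b - algebraMap A L a, ?_,
    add_sub_cancel _ _⟩
  rwa [smul_eq_mul, ← pow_two]

end Local

/-- A morphism which is bijective on completions at a closed point is étale there. -/
theorem isEtaleAt_of_congr_pow {A B : Type u} [CommRing A] [IsNoetherianRing A] [CommRing B] [Algebra A B]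
    [Algebra.FiniteType A B] (p : Ideal A) [p.IsMaximal] (q : Ideal B) [q.IsMaximal] [q.LiesOver p]
    (hsurj : ∀ (b : B) (n : ℕ), ∃ a : A, b - algebraMap A B a ∈ q ^ n)
    (hinj : ∀ n : ℕ, ∃ N : ℕ, ∀ a : A, algebraMap A B a ∈ q ^ N → a ∈ p ^ n) : Algebra.IsEtaleAt A q := by
  haveI : IsNoetherianRing B := Algebra.FiniteType.isNoetherianRing A B
  let := Localization.AtPrime.algebraOfLiesOver p q
  let Aₚ := Localization.AtPrime p
  let L := Localization.AtPrime q
  have hmL : IsLocalRing.maximalIdeal L = q.map (algebraMap B L) := Localization.AtPrime.map_eq_maximalIdeal.symm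
  have hmA : IsLocalRing.maximalIdeal Aₚ = p.map (algebraMap A Aₚ) := Localization.AtPrime.map_eq_maximalIdeal.symm
  haveI : IsLocalHom (algebraMap Aₚ L) := by
    refine ((IsLocalRing.local_hom_TFAE (algebraMap Aₚ L)).out 0 2).2 ?_
    rw [hmA, Ideal.map_map, ← IsScalarTower.algebraMap_eq, IsScalarTower.algebraMap_eq A B L, ← Ideal.map_map, hmL]
    exact Ideal.map_mono (Ideal.map_le_iff_le_comap.2 (q.over_def p).le)
  have hs : ∀ (l : L) (n : ℕ), ∃ a : Aₚ, l - algebraMap Aₚ L a ∈ IsLocalRing.maximalIdeal L ^ n := by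
    intro l n
    obtain ⟨⟨b, t⟩, rfl⟩ := IsLocalization.mk'_surjective q.primeCompl l
    have hcop : Ideal.span {(t : B)} ⊔ q ^ n = ⊤ := by
      rcases Nat.eq_zero_or_pos n with rfl | hn
      · simp
      rw [sup_comm]
      refine Ideal.pow_sup_eq_top ?_
      exact Ideal.IsMaximal.out.2 _ (left_lt_sup.2 fun h => t.2 (h (Ideal.subset_span rfl)))
    obtain ⟨u, hu, v, hv, huv⟩ := Submodule.mem_sup.1 (hcop ▸ Submodule.mem_top : (1 : B) ∈ _)
    obtain ⟨c, rfl⟩ := Ideal.mem_span_singleton'.1 hu
    obtain ⟨a, ha⟩ := hsurj (b * c) n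
    refine ⟨algebraMap A Aₚ a, ?_⟩
    rw [← IsScalarTower.algebraMap_apply, IsScalarTower.algebraMap_apply A B L, hmL, ← Ideal.map_pow]
    have h1 : IsLocalization.mk' L b t - algebraMap B L (algebraMap A B a) =
        IsLocalization.mk' L b t * algebraMap B L v + algebraMap B L (b * c - algebraMap A B a) := by
      have h2 : IsLocalization.mk' L b t * algebraMap B L (t : B) = algebraMap B L b := IsLocalization.mk'_spec L b t
      have h3 := congrArg (algebraMap B L) huv
      rw [map_add, map_mul, map_one] at h3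
      rw [map_sub, map_mul]
      linear_combination (IsLocalization.mk' L b t) * (-h3) + algebraMap B L c * h2
    rw [h1]
    exact add_mem (Ideal.mul_mem_left _ _ (Ideal.mem_map_of_mem _ hv)) (Ideal.mem_map_of_mem _ ha)
  have hi : ∀ n : ℕ, ∃ N : ℕ, ∀ a : Aₚ, algebraMap Aₚ L a ∈ IsLocalRing.maximalIdeal L ^ N →
      a ∈ IsLocalRing.maximalIdeal Aₚ ^ n := by
    intro n
    obtain ⟨N, hN⟩ := hinj n
    refine ⟨N + 1, fun a ha => ?_⟩
    obtain ⟨⟨s, t⟩, rfl⟩ := IsLocalization.mk'_surjective p.primeCompl a
    rw [hmA, ← Ideal.map_pow]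
    have h1 : algebraMap A L s ∈ IsLocalRing.maximalIdeal L ^ (N + 1) := by
      have := Ideal.mul_mem_right (algebraMap Aₚ L (algebraMap A Aₚ (t : A))) _ ha
      rwa [← map_mul, IsLocalization.mk'_spec, ← IsScalarTower.algebraMap_apply] at this
    rw [IsScalarTower.algebraMap_apply A B L, hmL, ← Ideal.map_pow,
      IsLocalization.algebraMap_mem_map_algebraMap_iff q.primeCompl L] at h1
    obtain ⟨u, hu, hus⟩ := h1
    have h2 : algebraMap A B s ∈ q ^ (N + 1) := by
      have hrad : (q ^ (N + 1)).radical = q := by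
        rw [Ideal.radical_pow q (Nat.succ_ne_zero N)]
        exact (Ideal.IsMaximal.isPrime ‹_›).radical
      have hprim : (q ^ (N + 1)).IsPrimary :=
        Ideal.isPrimary_of_isMaximal_radical (by rw [hrad]; infer_instance)
      rw [mul_comm] at hus
      refine ((Ideal.isPrimary_iff.1 hprim).2 hus).resolve_right fun h => hu ?_
      rwa [hrad] at h
    exact (IsLocalization.mk'_mem_map_algebraMap_iff p.primeCompl Aₚ _ _ _).2
      ⟨1, one_mem _, by simpa using hN s (Ideal.pow_le_pow_right (Nat.le_succ N) h2)⟩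
  have hflat : Module.Flat Aₚ L := flat_of_congr_pow hs hi
  have hmap : p.map (algebraMap A L) = IsLocalRing.maximalIdeal L := by
    rw [IsScalarTower.algebraMap_eq A Aₚ L, ← Ideal.map_map, ← hmA]
    exact map_maximalIdeal_of_congr_pow fun l => hs l 2
  have hres : Function.Bijective (algebraMap p.ResidueField q.ResidueField) := by
    refine ⟨(algebraMap p.ResidueField q.ResidueField).injective, fun y => ?_⟩
    obtain ⟨b', rfl⟩ := (Ideal.bijective_algebraMap_quotient_residueField q).2 y
    obtain ⟨b, rfl⟩ := Ideal.Quotient.mk_surjective b'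
    obtain ⟨a, ha⟩ := hsurj b 1
    refine ⟨algebraMap A p.ResidueField a, ?_⟩
    rw [pow_one] at ha
    rw [show algebraMap (B ⧸ q) q.ResidueField (Ideal.Quotient.mk q b) = algebraMap B q.ResidueField b from rfl,
      ← IsScalarTower.algebraMap_apply, IsScalarTower.algebraMap_apply A B q.ResidueField]
    rw [← sub_eq_zero, ← map_sub]
    exact Ideal.algebraMap_residueField_eq_zero.2 (by simpa using neg_mem ha)
  haveI : Module.Finite p.ResidueField q.ResidueField :=
    Module.Finite.of_surjective (Algebra.linearMap p.ResidueField q.ResidueField) hres.2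
  haveI : Algebra.IsSeparable p.ResidueField q.ResidueField :=
    Algebra.IsSeparable.of_equiv_equiv (RingEquiv.refl p.ResidueField) (RingEquiv.ofBijective _ hres) rfl
  exact (Groth.Agent.S9560.result A B p q).2 ⟨hflat, hmap, inferInstance, inferInstance⟩

theorem formallyEtale_of_bijective {S R : Type u} [CommRing S] [CommRing R] (f : S →+* R) (hf : Function.Bijective f) :
    f.FormallyEtale := by
  algebraize [f]
  exact Algebra.FormallyEtale.of_equiv (AlgEquiv.ofBijective (Algebra.ofId S R) hf)

/-- Étaleness at primes is transported by automorphisms of the source and of the base. -/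
theorem isEtaleAt_comap {S R : Type u} [CommRing S] [CommRing R] [Algebra S R] (α : R ≃+* R) (β : S ≃+* S)
    (h : ∀ s, α (algebraMap S R s) = algebraMap S R (β s)) (Q : Ideal R) [Q.IsPrime] (Q' : Ideal R) [Q'.IsPrime]
    (hQ : Q' = Q.comap (α : R →+* R)) (he : Algebra.IsEtaleAt S Q') : Algebra.IsEtaleAt S Q := by
  subst hQ
  have h1 : (algebraMap S (Localization.AtPrime (Q.comap (α : R →+* R)))).FormallyEtale :=
    RingHom.formallyEtale_algebraMap.2 he
  let E : Localization.AtPrime (Q.comap (α : R →+* R)) ≃+* Localization.AtPrime Q :=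
    IsLocalization.ringEquivOfRingEquiv (M := (Q.comap (α : R →+* R)).primeCompl) (T := Q.primeCompl)
      (Localization.AtPrime (Q.comap (α : R →+* R))) (Localization.AtPrime Q) α (by
        ext x
        rw [Submonoid.mem_map]
        exact ⟨fun ⟨y, hy, e⟩ => e ▸ hy, fun hx => ⟨α.symm x, fun h => hx (by simpa using h), α.apply_symm_apply x⟩⟩)
  have heq : algebraMap S (Localization.AtPrime Q) = ((E : _ →+* _).comp
      (algebraMap S (Localization.AtPrime (Q.comap (α : R →+* R))))).comp (β.symm : S →+* S) := by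
    ext s
    simp only [RingHom.comp_apply, RingHom.coe_coe]
    rw [IsScalarTower.algebraMap_apply S R (Localization.AtPrime (Q.comap (α : R →+* R))),
      IsScalarTower.algebraMap_apply S R (Localization.AtPrime Q)]
    show _ = IsLocalization.ringEquivOfRingEquiv (Localization.AtPrime (Q.comap (α : R →+* R))) (Localization.AtPrime Q) α _ _
    rw [IsLocalization.ringEquivOfRingEquiv_eq, h, RingEquiv.apply_symm_apply]
  show Algebra.FormallyEtale S (Localization.AtPrime Q)
  rw [← RingHom.formallyEtale_algebraMap, heq]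
  exact (formallyEtale_of_bijective _ β.symm.bijective).comp (h1.comp (formallyEtale_of_bijective _ E.bijective))

section Thick

variable {S R : Type u} [CommRing S] [CommRing R] [Algebra S R] {I : Ideal R}

/-- Along a closed subset of the unramified locus the differentials are divisible by its ideal. -/
theorem mem_smul_top_of_unramified [Algebra.FiniteType S R]
    (hun : ∀ (Q : Ideal R) [Q.IsPrime], I ≤ Q → Algebra.IsUnramifiedAt S Q) (ω : Ω[R⁄S]) :
    ω ∈ I • (⊤ : Submodule R Ω[R⁄S]) := by
  let 𝔞 : Ideal R := LinearMap.ker (LinearMap.toSpanSingleton R Ω[R⁄S] ω)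
  have htop : 𝔞 ⊔ I = ⊤ := by
    by_contra hne
    obtain ⟨Q, hQ, hle⟩ := Ideal.exists_le_maximal _ hne
    haveI := hQ.isPrime
    have hmem : (⟨Q, hQ.isPrime⟩ : PrimeSpectrum R) ∈ Algebra.unramifiedLocus S R := hun Q (le_sup_right.trans hle)
    rw [Algebra.unramifiedLocus_eq_compl_support, Set.mem_compl_iff, Module.notMem_support_iff'] at hmem
    obtain ⟨t, ht, ht0⟩ := hmem ω
    exact ht (hle (Ideal.mem_sup_left ht0))
  obtain ⟨a, ha, i, hi, hai⟩ := Submodule.mem_sup.1 (htop ▸ Submodule.mem_top : (1 : R) ∈ _)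
  have : ω = i • ω := by
    conv_lhs => rw [← one_smul R ω, ← hai, add_smul, show a • ω = 0 from ha, zero_add]
  rw [this]
  exact Submodule.smul_mem_smul hi trivial

/-- The ideal of a closed subscheme of an unramified locus mapped isomorphically to the base. -/
theorem le_sq_sup_map [Algebra.FiniteType S R] (hC : ∀ r : R, ∃ s : S, r - algebraMap S R s ∈ I)
    (hun : ∀ (Q : Ideal R) [Q.IsPrime], I ≤ Q → Algebra.IsUnramifiedAt S Q) :
    I ≤ I ^ 2 ⊔ (I.comap (algebraMap S R)).map (algebraMap S R) := by
  set φ := algebraMap S R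
  set K := I ^ 2 ⊔ (I.comap φ).map φ with hK
  choose σ hσ using hC
  have hwd : ∀ (r : R) (s : S), r - φ s ∈ I →
      Ideal.Quotient.mk K (r - φ (σ r)) = Ideal.Quotient.mk K (r - φ s) := fun r s hs => by
    rw [Ideal.Quotient.eq]
    refine Ideal.mem_sup_right ?_
    have e : r - φ (σ r) - (r - φ s) = φ (s - σ r) := by rw [map_sub]; abel
    rw [e]
    refine Ideal.mem_map_of_mem _ ?_
    show φ (s - σ r) ∈ I
    rw [← e]
    exact sub_mem (hσ r) hs
  let D : Derivation S R (R ⧸ K) :=
    { toFun := fun r => Ideal.Quotient.mk K (r - φ (σ r))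
      map_add' := fun a b => by
        rw [hwd (a + b) (σ a + σ b) (by rw [map_add, add_sub_add_comm]; exact add_mem (hσ a) (hσ b)), ← map_add,
          map_add φ, add_sub_add_comm]
      map_smul' := fun s a => by
        rw [hwd (s • a) (s * σ a) (by rw [Algebra.smul_def, map_mul, ← mul_sub]; exact I.mul_mem_left _ (hσ a))]
        show _ = s • Ideal.Quotient.mk K (a - φ (σ a))
        rw [← Ideal.Quotient.mkₐ_eq_mk S, ← map_smul]
        congr 1
        rw [Algebra.smul_def, Algebra.smul_def, map_mul, mul_sub]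
      map_one_eq_zero' := by
        show Ideal.Quotient.mk K (1 - φ (σ 1)) = 0
        rw [hwd 1 1 (by simp), map_one, sub_self, map_zero]
      leibniz' := fun a b => by
        show Ideal.Quotient.mk K (a * b - φ (σ (a * b))) =
          a • Ideal.Quotient.mk K (b - φ (σ b)) + b • Ideal.Quotient.mk K (a - φ (σ a))
        have hab : a * b - φ (σ a * σ b) ∈ I := by
          rw [map_mul, show a * b - φ (σ a) * φ (σ b) = a * (b - φ (σ b)) + φ (σ b) * (a - φ (σ a)) by ring]
          exact add_mem (I.mul_mem_left _ (hσ b)) (I.mul_mem_left _ (hσ a))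
        rw [hwd _ _ hab, Algebra.smul_def, Algebra.smul_def, Ideal.Quotient.algebraMap_eq, ← map_mul, ← map_mul,
          ← map_add, Ideal.Quotient.eq]
        refine Ideal.mem_sup_left ?_
        rw [map_mul, show a * b - φ (σ a) * φ (σ b) - (a * (b - φ (σ b)) + b * (a - φ (σ a))) =
          -((a - φ (σ a)) * (b - φ (σ b))) by ring, pow_two]
        exact neg_mem (Ideal.mul_mem_mul (hσ a) (hσ b)) }
  have hΩ := mem_smul_top_of_unramified hun
  intro r hr
  let f := D.liftKaehlerDifferential
  have hf : ∀ ω, f ω ∈ I.map (Ideal.Quotient.mk K) := fun ω => by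
    have : ω ∈ Submodule.span R (Set.range (KaehlerDifferential.D S R)) := by
      rw [KaehlerDifferential.span_range_derivation]; trivial
    induction this using Submodule.span_induction with
    | mem x hx =>
      obtain ⟨a, rfl⟩ := hx
      rw [Derivation.liftKaehlerDifferential_comp_D]
      exact Ideal.mem_map_of_mem _ (hσ a)
    | zero => simp
    | add x y _ _ hx hy => rw [map_add]; exact add_mem hx hy
    | smul c x _ hx =>
      rw [map_smul, Algebra.smul_def]
      exact Ideal.mul_mem_left _ _ hx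
  have hzero : ∀ ω, f ω = 0 := fun ω => by
    refine Submodule.smul_induction_on (hΩ ω) (fun i hi x _ => ?_) (fun x y hx hy => by rw [map_add, hx, hy, add_zero])
    obtain ⟨c, hc, hce⟩ := (Ideal.mem_map_iff_of_surjective _ Ideal.Quotient.mk_surjective).1 (hf x)
    rw [map_smul, ← hce, Algebra.smul_def, Ideal.Quotient.algebraMap_eq, ← map_mul, Ideal.Quotient.eq_zero_iff_mem]
    exact Ideal.mem_sup_left (by rw [pow_two]; exact Ideal.mul_mem_mul hi hc)
  have h := hzero (KaehlerDifferential.D S R r)
  rw [Derivation.liftKaehlerDifferential_comp_D] at h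
  change Ideal.Quotient.mk K (r - φ (σ r)) = 0 at h
  rw [hwd r 0 (by simpa using hr), map_zero, sub_zero, Ideal.Quotient.eq_zero_iff_mem] at h
  exact h

theorem exists_sub_mem_pow (hC : ∀ r : R, ∃ s : S, r - algebraMap S R s ∈ I)
    (hI : I ≤ I ^ 2 ⊔ (I.comap (algebraMap S R)).map (algebraMap S R)) (n : ℕ) :
    ∀ r : R, ∃ s : S, r - algebraMap S R s ∈ I ^ n := by
  induction n with
  | zero => exact fun r => ⟨0, by simp⟩
  | succ n ih =>
    cases n with
    | zero => simpa using hC
    | succ m =>
      intro r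
      obtain ⟨s₀, hs₀⟩ := ih r
      suffices ∀ z ∈ I ^ (m + 1), ∃ s : S, z - algebraMap S R s ∈ I ^ (m + 1 + 1) by
        obtain ⟨s, hs⟩ := this _ hs₀
        exact ⟨s₀ + s, by rwa [map_add, ← sub_sub]⟩
      intro z hz
      rw [pow_succ] at hz
      refine Submodule.mul_induction_on hz (fun u hu i hi => ?_) (fun u v hu hv => ?_)
      · obtain ⟨v, hv, w, hw, rfl⟩ := Submodule.mem_sup.1 (hI hi)
        have hw' : ∀ u ∈ I ^ m, ∃ s : S, u * w - algebraMap S R s ∈ I ^ (m + 1 + 1) := by
          clear hi hu
          induction hw using Submodule.span_induction with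
          | mem x hx =>
            obtain ⟨j, hj, rfl⟩ := hx
            intro u _
            obtain ⟨s, hs⟩ := ih u
            refine ⟨s * j, ?_⟩
            rw [map_mul, ← sub_mul, pow_succ]
            exact Ideal.mul_mem_mul hs hj
          | zero => exact fun u _ => ⟨0, by simp⟩
          | add x y _ _ hx hy =>
            intro u hu
            obtain ⟨a, ha⟩ := hx u hu
            obtain ⟨b, hb⟩ := hy u hu
            exact ⟨a + b, by rw [mul_add, map_add, add_sub_add_comm]; exact add_mem ha hb⟩
          | smul c x _ hx =>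
            intro u hu
            rw [smul_eq_mul, ← mul_assoc]
            exact hx _ (Ideal.mul_mem_right _ _ hu)
        obtain ⟨s, hs⟩ := hw' u hu
        refine ⟨s, ?_⟩
        rw [mul_add, add_sub_assoc]
        refine add_mem ?_ hs
        rw [show m + 1 + 1 = m + 2 from rfl, pow_add]
        exact Ideal.mul_mem_mul hu hv
      · obtain ⟨a, ha⟩ := hu
        obtain ⟨b, hb⟩ := hv
        exact ⟨a + b, by rw [map_add, add_sub_add_comm]; exact add_mem ha hb⟩

theorem exists_mul_pow_mem (hfg : I.FG)
    (hI : I ≤ I ^ 2 ⊔ (I.comap (algebraMap S R)).map (algebraMap S R)) :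
    ∃ t : R, t - 1 ∈ I ∧ ∀ (n : ℕ) (x : R), x ∈ I ^ n → t ^ n * x ∈ ((I.comap (algebraMap S R)) ^ n).map (algebraMap S R) := by
  set K := (I.comap (algebraMap S R)).map (algebraMap S R)
  obtain ⟨t, ht, h⟩ := Submodule.exists_sub_one_mem_and_smul_eq_zero_of_fg_of_le_smul I
    (Submodule.map K.mkQ I) (Submodule.FG.map _ hfg) (by
      rw [← Submodule.map_smul'']
      rintro _ ⟨i, hi, rfl⟩
      obtain ⟨v, hv, w, hw, rfl⟩ := Submodule.mem_sup.1 (hI hi)
      refine ⟨v, by rwa [smul_eq_mul, ← pow_two], ?_⟩
      rw [map_add, (Submodule.Quotient.mk_eq_zero K).2 hw |> (show K.mkQ w = 0 from ·), add_zero])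
  have h1 : ∀ i ∈ I, t * i ∈ K := fun i hi => by
    have := h _ ⟨i, hi, rfl⟩
    rw [← map_smul] at this
    exact (Submodule.Quotient.mk_eq_zero K).1 this
  refine ⟨t, ht, fun n => ?_⟩
  rw [Ideal.map_pow]
  induction n with
  | zero => intro x _; simp
  | succ n ih =>
    intro x hx
    rw [pow_succ I] at hx
    refine Submodule.mul_induction_on hx (fun u hu i hi => ?_) (fun u v hu hv => by rw [mul_add]; exact add_mem hu hv)
    rw [show t ^ (n + 1) * (u * i) = (t ^ n * u) * (t * i) by ring, pow_succ]
    exact Ideal.mul_mem_mul (ih u hu) (h1 i hi)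

/-- Powers of the ideal contract to powers of its contraction. -/
theorem mem_pow_of_map_mem_pow [IsNoetherianRing R] [Algebra.FinitePresentation S R]
    (hI : I ≤ I ^ 2 ⊔ (I.comap (algebraMap S R)).map (algebraMap S R))
    (hlift : ∀ p : Ideal S, p.IsMaximal → I.comap (algebraMap S R) ≤ p →
      ∃ Q : Ideal R, ∃ _ : Q.IsPrime, I ≤ Q ∧ Q.comap (algebraMap S R) = p ∧ Algebra.IsEtaleAt S Q)
    (n : ℕ) (s : S) (hs : algebraMap S R s ∈ I ^ n) : s ∈ (I.comap (algebraMap S R)) ^ n := by
  set J := I.comap (algebraMap S R)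
  obtain ⟨t, ht, htn⟩ := exists_mul_pow_mem (IsNoetherian.noetherian I) hI
  let 𝔏 : Ideal S := Submodule.colon (J ^ n) {s}
  suffices h1 : 𝔏 = ⊤ by
    have : (1 : S) ∈ 𝔏 := h1 ▸ Submodule.mem_top
    simpa [𝔏, Submodule.mem_colon_singleton] using this
  by_contra hne
  obtain ⟨p, hp, hle⟩ := Ideal.exists_le_maximal _ hne
  have hJp : J ≤ p := by
    rcases Nat.eq_zero_or_pos n with rfl | hn
    · exact absurd (show 𝔏 = ⊤ by simp [𝔏, Ideal.eq_top_iff_one, Submodule.mem_colon_singleton]) hne
    · refine (hp.isPrime.pow_le_iff hn.ne').1 (le_trans (fun j hj => ?_) hle)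
      exact Submodule.mem_colon_singleton.2 (Ideal.mul_mem_right _ _ hj)
  obtain ⟨Q, hQ, hIQ, hQp, het⟩ := hlift p hp hJp
  obtain ⟨g, hg, hEt⟩ := Algebra.exists_etale_of_isEtaleAt (R := S) Q
  let P := Localization.Away g
  haveI : Module.Flat S P := inferInstance
  let m : S →ₗ[S] S ⧸ J ^ n := LinearMap.toSpanSingleton S _ (Ideal.Quotient.mk (J ^ n) s)
  have hkm : LinearMap.ker m = 𝔏 := by
    ext c
    rw [LinearMap.mem_ker, LinearMap.toSpanSingleton_apply, Submodule.mem_colon_singleton, Algebra.smul_def,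
      Ideal.Quotient.algebraMap_eq, ← map_mul, Ideal.Quotient.eq_zero_iff_mem]
    rfl
  have htu : IsUnit (algebraMap R (Localization.AtPrime Q) t) :=
    IsLocalization.map_units (Localization.AtPrime Q) (⟨t, fun h => hQ.ne_top ((Ideal.eq_top_iff_one Q).2
      (by simpa using sub_mem h (hIQ ht)))⟩ : Q.primeCompl)
  have hgu : IsUnit (algebraMap R (Localization.AtPrime Q) g) :=
    IsLocalization.map_units (Localization.AtPrime Q) (⟨g, hg⟩ : Q.primeCompl)
  have h2 : m.rTensor P ((1 : S) ⊗ₜ[S] algebraMap R P (t ^ n)) = 0 := by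
    apply (TensorProduct.comm S (S ⧸ J ^ n) P).injective
    apply (TensorProduct.tensorQuotEquivQuotSMul P (J ^ n)).injective
    simp only [LinearMap.rTensor_tmul, m, LinearMap.toSpanSingleton_apply, one_smul, TensorProduct.comm_tmul,
      map_zero]
    rw [TensorProduct.tensorQuotEquivQuotSMul_tmul_mk, Submodule.Quotient.mk_eq_zero, Algebra.smul_def,
      Ideal.smul_top_eq_map, Submodule.restrictScalars_mem, IsScalarTower.algebraMap_apply S R P, ← map_mul,
      IsScalarTower.algebraMap_eq S R P, ← Ideal.map_map, mul_comm]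
    exact Ideal.mem_map_of_mem _ (htn n _ hs)
  have hex := Module.Flat.rTensor_exact P (LinearMap.exact_subtype_ker_map m)
  obtain ⟨z, hz⟩ := (hex _).1 h2
  have h3 : algebraMap R P (t ^ n) ∈ 𝔏.map (algebraMap S P) := by
    have : TensorProduct.lid S P (LinearMap.rTensor P (LinearMap.ker m).subtype z) ∈ 𝔏.map (algebraMap S P) := by
      clear hz
      induction z using TensorProduct.induction_on with
      | zero => simp
      | tmul a b =>
        simp only [LinearMap.rTensor_tmul, TensorProduct.lid_tmul, Algebra.smul_def]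
        exact Ideal.mul_mem_right _ _ (Ideal.mem_map_of_mem _ (hkm.le a.2))
      | add a b ha hb => rw [map_add, map_add]; exact add_mem ha hb
    rwa [hz, TensorProduct.lid_tmul, one_smul] at this
  let ρ : P →+* Localization.AtPrime Q := IsLocalization.Away.lift g hgu
  have h4 : algebraMap R (Localization.AtPrime Q) (t ^ n) ∈
      (𝔏.map (algebraMap S R)).map (algebraMap R (Localization.AtPrime Q)) := by
    have hρ : ρ.comp (algebraMap R P) = algebraMap R (Localization.AtPrime Q) :=
      IsLocalization.Away.lift_comp g hgu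
    have h31 : ρ (algebraMap R P (t ^ n)) ∈ (𝔏.map (algebraMap S P)).map ρ := Ideal.mem_map_of_mem ρ h3
    have h32 : (𝔏.map (algebraMap S P)).map ρ = (𝔏.map (algebraMap S R)).map (algebraMap R (Localization.AtPrime Q)) := by
      rw [← hρ, ← Ideal.map_map (algebraMap R P) ρ, Ideal.map_map (algebraMap S R) (algebraMap R P),
        ← IsScalarTower.algebraMap_eq S R P]
    rw [← RingHom.comp_apply, hρ, h32] at h31
    exact h31
  have h5 : (𝔏.map (algebraMap S R)).map (algebraMap R (Localization.AtPrime Q)) ≤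
      IsLocalRing.maximalIdeal (Localization.AtPrime Q) := by
    rw [← Localization.AtPrime.map_eq_maximalIdeal]
    exact Ideal.map_mono (Ideal.map_le_iff_le_comap.2 (hle.trans hQp.ge))
  exact h5 h4 (by rw [map_pow]; exact htu.pow n)

end Thick

end

end Groth.Agent.H20Luna
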