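import Groth.Agent.H20Luna.Completion

/-!
Luna's fundamental lemma: an equivariant map, étale at a point with closed orbit, with closed image
orbit and injective on the orbit, induces an étale map of the quotients at the image point.
-/

set_option autoImplicit false
set_option linter.style.haveILetI false
set_option linter.unusedSectionVars false
set_option backward.isDefEq.respectTransparency false
set_option maxHeartbeats 1000000
set_option synthInstance.maxHeartbeats 200000

universe u

open TensorProduct HopfRep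
open Groth.Agent.H20Comod Groth.Agent.H20Comod.OrbitPrimes

namespace Groth.Agent.H20Luna

noncomputable section

variable {k : Type u} [Field k] [IsAlgClosed k] {A : Type u} [CommRing A] [IsDomain A] [HopfAlgebra k A]
  [Algebra.FiniteType k A]
  {S R : Type u} [CommRing S] [Algebra k S] [Algebra.FiniteType k S] [Comod k A S] [GLin.IsCoactAlg k A S]
  [CommRing R] [Algebra k R] [Algebra.FiniteType k R] [Comod k A R] [GLin.IsCoactAlg k A R]
  [Algebra S R] [IsScalarTower k S R]

variable (hequiv : ∀ s : S, Comod.coact (k := k) (A := A) (algebraMap S R s) =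
    Algebra.TensorProduct.map (IsScalarTower.toAlgHom k S R) (AlgHom.id k A) (Comod.coact (k := k) (A := A) s))
  (x : R →ₐ[k] k)

omit [IsAlgClosed k] [IsDomain A] [Algebra.FiniteType k A] [Algebra.FiniteType k R] in
/-- Functions on the quotient meet the ideal of an orbit in the ideal of the image point. -/
theorem comap_ker_orbitHom {R₀ : Type u} [CommRing R₀] [Algebra k R₀] [Algebra R₀ R] [IsScalarTower k R₀ R]
    (hR₀ : (IsScalarTower.toAlgHom k R₀ R).range = GLin.invariants k A R) :
    (RingHom.ker (GLin.orbitHom k A x)).comap (algebraMap R₀ R) = (RingHom.ker x).comap (algebraMap R₀ R) := by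
  ext r
  have hr : algebraMap R₀ R r ∈ GLin.invariants k A R := hR₀ ▸ ⟨r, rfl⟩
  haveI : Nontrivial A := RingHom.domain_nontrivial (Bialgebra.counitAlgHom k A).toRingHom
  simp only [Ideal.mem_comap, RingHom.mem_ker]
  rw [orbitHom_of_invariant x hr, map_eq_zero_iff _ (algebraMap k A).injective]

omit [IsAlgClosed k] [IsDomain A] [Algebra.FiniteType k A] [Algebra.FiniteType k R] in
theorem isMaximal_comap_ker (R₀ : Type u) [CommRing R₀] [Algebra k R₀] [Algebra R₀ R] [IsScalarTower k R₀ R] :
    ((RingHom.ker x).comap (algebraMap R₀ R)).IsMaximal := by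
  have h : (RingHom.ker x).comap (algebraMap R₀ R) = RingHom.ker (x.comp (IsScalarTower.toAlgHom k R₀ R)) := rfl
  rw [h]
  exact RingHom.ker_isMaximal_of_surjective _ fun c =>
    ⟨algebraMap k R₀ c, (x.comp (IsScalarTower.toAlgHom k R₀ R)).commutes c⟩

include hequiv in
/-- The thickenings of a closed orbit in source and target agree. -/
theorem exists_thickening (hx : GLin.IsClosedOrbit k A x)
    (hy : GLin.IsClosedOrbit k A (x.comp (IsScalarTower.toAlgHom k S R)))
    (hinj : ∀ g : A →ₐ[k] k, GLin.actPt k g (x.comp (IsScalarTower.toAlgHom k S R)) =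
      x.comp (IsScalarTower.toAlgHom k S R) → GLin.actPt k g x = x)
    [(RingHom.ker x).IsPrime] (het : Algebra.IsEtaleAt S (RingHom.ker x)) :
    (∀ (r : R) (n : ℕ), ∃ s : S, r - algebraMap S R s ∈ RingHom.ker (GLin.orbitHom k A x) ^ n) ∧
      ∀ (n : ℕ) (s : S), algebraMap S R s ∈ RingHom.ker (GLin.orbitHom k A x) ^ n →
        s ∈ RingHom.ker (GLin.orbitHom k A (x.comp (IsScalarTower.toAlgHom k S R))) ^ n := by
  haveI : IsNoetherianRing S := Algebra.FiniteType.isNoetherianRing k S
  haveI : IsNoetherianRing R := Algebra.FiniteType.isNoetherianRing k R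
  haveI : Algebra.FiniteType S R := Algebra.FiniteType.of_restrictScalars_finiteType k S R
  haveI : Algebra.FinitePresentation S R := Algebra.FinitePresentation.of_finiteType.mp inferInstance
  have hE := isEtaleAt_of_ker_orbitHom_le hequiv x hx het
  have hun : ∀ (Q : Ideal R) [Q.IsPrime], RingHom.ker (GLin.orbitHom k A x) ≤ Q → Algebra.IsUnramifiedAt S Q :=
    fun Q _ hQ => by
      haveI := hE Q hQ
      show Algebra.FormallyUnramified S (Localization.AtPrime Q)
      infer_instance
  have hC := exists_sub_mem_ker_orbitHom hequiv x hy hinj hun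
  have hI := le_sq_sup_map hC hun
  have hJ : (RingHom.ker (GLin.orbitHom k A x)).comap (algebraMap S R) =
      RingHom.ker (GLin.orbitHom k A (x.comp (IsScalarTower.toAlgHom k S R))) := by
    ext s
    simp only [Ideal.mem_comap, RingHom.mem_ker, orbitHom_algebraMap hequiv x]
  refine ⟨fun r n => exists_sub_mem_pow hC hI n r, fun n s hs => hJ ▸ mem_pow_of_map_mem_pow hI ?_ n s hs⟩
  intro p hp hJp
  rw [hJ] at hJp
  obtain ⟨z, hz⟩ := exists_point_le_ker (k := k) hp.ne_top
  obtain ⟨g, rfl⟩ := exists_actPt_eq_of_isClosedOrbit hy (hJp.trans hz)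
  haveI hQ : (RingHom.ker (GLin.actPt k g x)).IsPrime := RingHom.ker_isPrime _
  have hle : RingHom.ker (GLin.orbitHom k A x) ≤ RingHom.ker (GLin.actPt k g x) := fun f hf => by
    rw [RingHom.mem_ker, GLin.actPt, AlgHom.comp_apply, show GLin.orbitHom k A x f = 0 from hf, map_zero]
  refine ⟨_, hQ, hle, ?_, hE _ hle⟩
  refine (hp.eq_of_le (Ideal.comap_isPrime _ _).ne_top fun s hs => ?_).symm
  have := hz hs
  rw [RingHom.mem_ker, GLin.actPt, AlgHom.comp_apply, ← orbitHom_algebraMap hequiv x] at this
  exact this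

/-- Hilbert's theorem for a ring identified with the invariants. -/
theorem finiteType_invariants {α : A →ₗ[k] k} (hα : IsIntegral α) (h1 : α 1 = 1) {T T₀ : Type u} [CommRing T]
    [Algebra k T] [Algebra.FiniteType k T] [Comod k A T] [GLin.IsCoactAlg k A T] [CommRing T₀] [Algebra k T₀]
    [Algebra T₀ T] [IsScalarTower k T₀ T] (hi : Function.Injective (algebraMap T₀ T))
    (hr : (IsScalarTower.toAlgHom k T₀ T).range = GLin.invariants k A T) : Algebra.FiniteType k T₀ := by
  obtain ⟨s, hs⟩ := exists_finset_invariants_adjoin (k := k) (H := A) (R := T) hα h1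
  haveI : Algebra.FiniteType k (GLin.invariants k A T) := (Subalgebra.fg_iff_finiteType _).1 ⟨s, hs.symm⟩
  exact Algebra.FiniteType.equiv ‹_›
    ((AlgEquiv.ofInjective (IsScalarTower.toAlgHom k T₀ T) hi).trans (Subalgebra.equivOfEq _ _ hr)).symm

include hequiv in
/-- **Luna's fundamental lemma.** -/
theorem isEtaleAt_invariants (hG : IsLinearlyReductive k A) (hx : GLin.IsClosedOrbit k A x)
    (hy : GLin.IsClosedOrbit k A (x.comp (IsScalarTower.toAlgHom k S R)))
    (hinj : ∀ g : A →ₐ[k] k, GLin.actPt k g (x.comp (IsScalarTower.toAlgHom k S R)) =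
      x.comp (IsScalarTower.toAlgHom k S R) → GLin.actPt k g x = x)
    [(RingHom.ker x).IsPrime] (het : Algebra.IsEtaleAt S (RingHom.ker x))
    {S₀ : Type u} [CommRing S₀] [Algebra k S₀] [Algebra S₀ S] [IsScalarTower k S₀ S]
    (hS₀i : Function.Injective (algebraMap S₀ S))
    (hS₀ : (IsScalarTower.toAlgHom k S₀ S).range = GLin.invariants k A S)
    {R₀ : Type u} [CommRing R₀] [Algebra k R₀] [Algebra R₀ R] [IsScalarTower k R₀ R]
    (hR₀i : Function.Injective (algebraMap R₀ R))
    (hR₀ : (IsScalarTower.toAlgHom k R₀ R).range = GLin.invariants k A R)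
    [Algebra S₀ R₀] [Algebra S₀ R] [IsScalarTower S₀ S R] [IsScalarTower S₀ R₀ R] :
    Algebra.IsEtaleAt S₀ ((RingHom.ker x).comap (algebraMap R₀ R)) := by
  obtain ⟨α, hα, h1⟩ := exists_isIntegral_of_isLinearlyReductive hG
  haveI : IsNoetherianRing R := Algebra.FiniteType.isNoetherianRing k R
  haveI : IsNoetherianRing S := Algebra.FiniteType.isNoetherianRing k S
  set y := x.comp (IsScalarTower.toAlgHom k S R) with hydef
  obtain ⟨hsurj, hinjn⟩ := exists_thickening hequiv x hx hy hinj het
  set I := RingHom.ker (GLin.orbitHom k A x)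
  set J := RingHom.ker (GLin.orbitHom k A y)
  set q := (RingHom.ker x).comap (algebraMap R₀ R)
  set p := (RingHom.ker y).comap (algebraMap S₀ S)
  have hIq : I.comap (algebraMap R₀ R) = q := comap_ker_orbitHom x hR₀
  have hJp : J.comap (algebraMap S₀ S) = p := comap_ker_orbitHom y hS₀
  haveI hqmax : q.IsMaximal := isMaximal_comap_ker x R₀
  haveI hpmax : p.IsMaximal := isMaximal_comap_ker y S₀
  haveI : q.LiesOver p := ⟨Ideal.ext fun a => by
    simp only [p, q, Ideal.mem_comap, RingHom.mem_ker, Ideal.under_def, hydef, AlgHom.comp_apply,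
      IsScalarTower.coe_toAlgHom', ← IsScalarTower.algebraMap_apply]⟩
  haveI : (I.comap (algebraMap R₀ R)).IsMaximal := hIq.symm ▸ hqmax
  haveI : (J.comap (algebraMap S₀ S)).IsMaximal := hJp.symm ▸ hpmax
  have hkS : IsScalarTower k S₀ R₀ := IsScalarTower.of_algebraMap_eq fun c => hR₀i (by
    rw [← IsScalarTower.algebraMap_apply S₀ R₀ R, IsScalarTower.algebraMap_apply S₀ S R,
      ← IsScalarTower.algebraMap_apply k S₀ S, ← IsScalarTower.algebraMap_apply k S R,
      ← IsScalarTower.algebraMap_apply k R₀ R])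
  haveI := finiteType_invariants (k := k) (A := A) hα h1 hS₀i hS₀
  haveI := finiteType_invariants (k := k) (A := A) hα h1 hR₀i hR₀
  haveI : IsNoetherianRing S₀ := Algebra.FiniteType.isNoetherianRing k S₀
  haveI : Algebra.FiniteType S₀ R₀ := Algebra.FiniteType.of_restrictScalars_finiteType k S₀ R₀
  have hIpow : ∀ (n : ℕ) (a : R₀), a ∈ q ^ n → algebraMap R₀ R a ∈ I ^ n := fun n a ha => by
    rw [← hIq] at ha
    exact Ideal.le_comap_pow (algebraMap R₀ R) n ha
  refine isEtaleAt_of_congr_pow p q (fun r n => ?_) (fun n => ?_)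
  · obtain ⟨N, hN⟩ := exists_comap_pow_le hα h1 (isSubcomod_ker_orbitHom x) hR₀i hR₀ n
    obtain ⟨s, hs⟩ := hsurj (algebraMap R₀ R r) N
    obtain ⟨a, ha⟩ : actL α s ∈ (IsScalarTower.toAlgHom k S₀ S).range :=
      hS₀.symm ▸ actL_mem_fixedPts hα h1 s
    refine ⟨a, hIq ▸ hN ?_⟩
    show algebraMap R₀ R (r - algebraMap S₀ R₀ a) ∈ I ^ N
    have h2 := actL_mem_of_isSubcomod (isSubcomod_pow (isSubcomod_ker_orbitHom x) N) α hs
    rw [map_sub, ← IsScalarTower.algebraMap_apply, IsScalarTower.algebraMap_apply S₀ S R,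
      show algebraMap S₀ S a = actL α s from ha]
    rw [map_sub, actL_eq_self_of_fixed h1 (show algebraMap R₀ R r ∈ GLin.invariants k A R from hR₀ ▸ ⟨r, rfl⟩),
      show algebraMap S R s = (IsScalarTower.toAlgHom k S R).toLinearMap s from rfl,
      ← actL_natural (IsScalarTower.toAlgHom k S R).toLinearMap (LinearMap.ext hequiv) α s] at h2
    simpa only [Submodule.restrictScalars_mem, AlgHom.toLinearMap_apply, IsScalarTower.coe_toAlgHom'] using h2
  · obtain ⟨N, hN⟩ := exists_comap_pow_le hα h1 (isSubcomod_ker_orbitHom y) hS₀i hS₀ n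
    refine ⟨N, fun a ha => hJp ▸ hN ?_⟩
    show algebraMap S₀ S a ∈ J ^ N
    refine hinjn N _ ?_
    rw [← IsScalarTower.algebraMap_apply, IsScalarTower.algebraMap_apply S₀ R₀ R]
    exact hIpow N _ ha

end

end Groth.Agent.H20Luna
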