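import Groth.Agent.H20Luna.Cartesian

/-!
Saturated neighbourhoods over which an equivariant map is a base change of the map of quotients.
-/

set_option autoImplicit false
set_option linter.style.haveILetI false
set_option linter.unusedSectionVars false
set_option backward.isDefEq.respectTransparency false
set_option maxHeartbeats 800000
set_option synthInstance.maxHeartbeats 200000

universe u

open TensorProduct HopfRep
open Groth.Agent.H20Comod

namespace Groth.Agent.H20Luna

noncomputable section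

/-- A base change is unramified where the original map is. -/
theorem formallyUnramified_baseChange_at {S₀ R₀ S : Type u} [CommRing S₀] [CommRing R₀] [CommRing S]
    [Algebra S₀ R₀] [Algebra S₀ S] (P : Ideal (S ⊗[S₀] R₀)) [P.IsPrime] (q : Ideal R₀) [q.IsPrime]
    (hq : P.comap (Algebra.TensorProduct.includeRight : R₀ →ₐ[S₀] S ⊗[S₀] R₀) ≤ q)
    [Algebra.FormallyUnramified S₀ (Localization.AtPrime q)] :
    Algebra.FormallyUnramified S (Localization.AtPrime P) := by
  refine Algebra.FormallyUnramified.iff_comp_injective.mpr fun B _ _ J hJ f g hfg => ?_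
  let ι : S ⊗[S₀] R₀ →+* Localization.AtPrime P := algebraMap _ _
  let iR : R₀ →+* Localization.AtPrime P :=
    ι.comp (Algebra.TensorProduct.includeRight : R₀ →ₐ[S₀] S ⊗[S₀] R₀).toRingHom
  have hu : ∀ c : q.primeCompl, IsUnit (iR c) := fun c =>
    IsLocalization.map_units (Localization.AtPrime P) (⟨_, fun h => c.2 (hq h)⟩ : P.primeCompl)
  let θ : Localization.AtPrime q →+* Localization.AtPrime P := IsLocalization.lift hu
  letI : Algebra S₀ B := ((algebraMap S B).comp (algebraMap S₀ S)).toAlgebra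
  haveI : IsScalarTower S₀ S B := IsScalarTower.of_algebraMap_eq fun _ => rfl
  have hc : ∀ (e : Localization.AtPrime P →ₐ[S] B) (c : S₀),
      e.toRingHom.comp θ (algebraMap S₀ (Localization.AtPrime q) c) = algebraMap S₀ B c := fun e c => by
    rw [RingHom.comp_apply, IsScalarTower.algebraMap_apply S₀ R₀ (Localization.AtPrime q)]
    show e (θ _) = algebraMap S B (algebraMap S₀ S c)
    rw [IsLocalization.lift_eq, ← e.commutes]
    congr 1
    show ι ((1 : S) ⊗ₜ[S₀] algebraMap S₀ R₀ c) = algebraMap S (Localization.AtPrime P) (algebraMap S₀ S c)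
    rw [IsScalarTower.algebraMap_apply S (S ⊗[S₀] R₀) (Localization.AtPrime P)]
    congr 1
    show (1 : S) ⊗ₜ[S₀] algebraMap S₀ R₀ c = algebraMap S₀ S c ⊗ₜ[S₀] (1 : R₀)
    rw [Algebra.algebraMap_eq_smul_one, ← TensorProduct.smul_tmul, Algebra.algebraMap_eq_smul_one]
  let f' : Localization.AtPrime q →ₐ[S₀] B := { f.toRingHom.comp θ with commutes' := hc f }
  let g' : Localization.AtPrime q →ₐ[S₀] B := { g.toRingHom.comp θ with commutes' := hc g }
  have hfg' : f' = g' := Algebra.FormallyUnramified.iff_comp_injective.mp inferInstance J hJ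
    (AlgHom.ext fun z => AlgHom.congr_fun hfg (θ z))
  have key : f.toRingHom.comp ι = g.toRingHom.comp ι := by
    refine RingHom.ext fun t => ?_
    induction t using TensorProduct.induction_on with
    | zero => simp
    | add a b ha hb => rw [map_add, map_add, ha, hb]
    | tmul s r =>
      have hr : f (iR r) = g (iR r) := by
        have := AlgHom.congr_fun hfg' (algebraMap R₀ (Localization.AtPrime q) r)
        change f (θ _) = g (θ _) at this
        rwa [IsLocalization.lift_eq] at this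
      have e : ι (s ⊗ₜ[S₀] r) = algebraMap S (Localization.AtPrime P) s * iR r := by
        rw [IsScalarTower.algebraMap_apply S (S ⊗[S₀] R₀) (Localization.AtPrime P)]
        show ι _ = ι (s ⊗ₜ[S₀] (1 : R₀)) * ι ((1 : S) ⊗ₜ[S₀] r)
        rw [← map_mul, Algebra.TensorProduct.tmul_mul_tmul, mul_one, one_mul]
      show f (ι _) = g (ι _)
      rw [e, map_mul, map_mul, f.commutes, g.commutes, hr]
  exact AlgHom.coe_ringHom_injective (IsLocalization.ringHom_ext P.primeCompl key)

variable {k : Type u} [Field k] [IsAlgClosed k] {A : Type u} [CommRing A] [IsDomain A] [HopfAlgebra k A]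
  [Algebra.FiniteType k A]
  {S R : Type u} [CommRing S] [Algebra k S] [Algebra.FiniteType k S] [Comod k A S] [GLin.IsCoactAlg k A S]
  [CommRing R] [Algebra k R] [Algebra.FiniteType k R] [Comod k A R] [GLin.IsCoactAlg k A R]
  [Algebra S R] [IsScalarTower k S R]

/-- **The neighbourhood in Luna's fundamental lemma.** -/
theorem exists_cartesian_nhd
    (hequiv : ∀ s : S, Comod.coact (k := k) (A := A) (algebraMap S R s) =
      Algebra.TensorProduct.map (IsScalarTower.toAlgHom k S R) (AlgHom.id k A) (Comod.coact (k := k) (A := A) s))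
    (hG : IsLinearlyReductive k A) (x : R →ₐ[k] k) (hx : GLin.IsClosedOrbit k A x)
    (hy : GLin.IsClosedOrbit k A (x.comp (IsScalarTower.toAlgHom k S R)))
    (hinj : ∀ g : A →ₐ[k] k, GLin.actPt k g (x.comp (IsScalarTower.toAlgHom k S R)) =
      x.comp (IsScalarTower.toAlgHom k S R) → GLin.actPt k g x = x)
    [(RingHom.ker x).IsPrime] (het : Algebra.IsEtaleAt S (RingHom.ker x))
    {S₀ : Type u} [CommRing S₀] [Algebra k S₀] [Algebra S₀ S] [IsScalarTower k S₀ S]
    (hS₀i : Function.Injective (algebraMap S₀ S))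
    (hS₀ : (IsScalarTower.toAlgHom k S₀ S).range = GLin.invariants k A S)
    {R₀ : Type u} [CommRing R₀] [Algebra k R₀] [Algebra R₀ R] [IsScalarTower k R₀ R]
    (hR₀i : Function.Injective (algebraMap R₀ R))
    (hR₀ : (IsScalarTower.toAlgHom k R₀ R).range = GLin.invariants k A R)
    [Algebra S₀ R₀] [Algebra S₀ R] [IsScalarTower S₀ S R] [IsScalarTower S₀ R₀ R] :
    ∃ f : R₀, x (algebraMap R₀ R f) = 1 ∧
      (∀ z : S ⊗[S₀] R₀, Algebra.TensorProduct.productMap (IsScalarTower.toAlgHom S₀ S R)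
        (IsScalarTower.toAlgHom S₀ R₀ R) z = 0 → ((1 : S) ⊗ₜ[S₀] f) * z = 0) ∧
      ∀ r : R, ∃ (n : ℕ) (z : S ⊗[S₀] R₀), Algebra.TensorProduct.productMap (IsScalarTower.toAlgHom S₀ S R)
        (IsScalarTower.toAlgHom S₀ R₀ R) z = algebraMap R₀ R f ^ n * r := by
  obtain ⟨α, hα, h1⟩ := exists_isIntegral_of_isLinearlyReductive hG
  haveI hetq := isEtaleAt_invariants hequiv x hG hx hy hinj het hS₀i hS₀ hR₀i hR₀
  have hqmax : ((RingHom.ker x).comap (algebraMap R₀ R)).IsMaximal := isMaximal_comap_ker x R₀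
  haveI : IsScalarTower k S₀ R₀ := IsScalarTower.of_algebraMap_eq fun c => hR₀i (by
    rw [← IsScalarTower.algebraMap_apply S₀ R₀ R, IsScalarTower.algebraMap_apply S₀ S R,
      ← IsScalarTower.algebraMap_apply k S₀ S, ← IsScalarTower.algebraMap_apply k S R,
      ← IsScalarTower.algebraMap_apply k R₀ R])
  haveI := finiteType_invariants (k := k) (A := A) hα h1 hR₀i hR₀
  haveI : Algebra.FiniteType S₀ R₀ := Algebra.FiniteType.of_restrictScalars_finiteType k S₀ R₀
  haveI : Algebra.FiniteType k (S ⊗[S₀] R₀) :=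
    Algebra.FiniteType.trans (‹Algebra.FiniteType k S›) (inferInstance : Algebra.FiniteType S (S ⊗[S₀] R₀))
  have hS₀c : ∀ s : S₀, algebraMap S₀ S s ∈ GLin.invariants k A S := fun s => hS₀ ▸ ⟨s, rfl⟩
  obtain ⟨cT, hcoT, hcT⟩ := exists_comod_baseChange (A := A) (S := S) (R₀ := R₀) hS₀c
  letI := cT
  haveI := hcoT
  let ψ : S ⊗[S₀] R₀ →ₐ[S₀] R :=
    Algebra.TensorProduct.productMap (IsScalarTower.toAlgHom S₀ S R) (IsScalarTower.toAlgHom S₀ R₀ R)
  letI : Algebra (S ⊗[S₀] R₀) R := ψ.toRingHom.toAlgebra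
  have hψ : ∀ (s : S) (r : R₀), algebraMap (S ⊗[S₀] R₀) R (s ⊗ₜ[S₀] r) = algebraMap S R s * algebraMap R₀ R r :=
    fun s r => by
      show ψ _ = _
      simp [ψ]
  haveI : IsScalarTower S (S ⊗[S₀] R₀) R := IsScalarTower.of_algebraMap_eq fun s => by
    rw [Algebra.TensorProduct.algebraMap_apply, Algebra.algebraMap_self, RingHom.id_apply, hψ, map_one, mul_one]
  haveI : IsScalarTower k (S ⊗[S₀] R₀) R := IsScalarTower.of_algebraMap_eq fun c => by
    rw [IsScalarTower.algebraMap_apply k S (S ⊗[S₀] R₀), ← IsScalarTower.algebraMap_apply S (S ⊗[S₀] R₀) R,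
      ← IsScalarTower.algebraMap_apply k S R]
  have hTR : Hoch.IsComodHom A (IsScalarTower.toAlgHom k (S ⊗[S₀] R₀) R).toLinearMap :=
    isComodHom_baseChange hcT (IsScalarTower.toAlgHom k S R) (LinearMap.ext hequiv) _ (algebraMap R₀ R)
      (fun r => hR₀ ▸ ⟨r, rfl⟩) fun s r => hψ s r
  set I := RingHom.ker (GLin.orbitHom k A x) with hIdef
  have hE := isEtaleAt_of_ker_orbitHom_le hequiv x hx het
  have hun : ∀ (Q : Ideal R) [Q.IsPrime], I ≤ Q → Algebra.IsUnramifiedAt S Q := fun Q _ hQ => by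
    haveI := hE Q hQ
    show Algebra.FormallyUnramified S (Localization.AtPrime Q)
    infer_instance
  haveI : IsNoetherianRing S := Algebra.FiniteType.isNoetherianRing k S
  haveI : Algebra.FiniteType S R := Algebra.FiniteType.of_restrictScalars_finiteType k S R
  have hCS := exists_sub_mem_ker_orbitHom hequiv x hy hinj hun
  have hC : ∀ r : R, ∃ t : S ⊗[S₀] R₀, r - algebraMap (S ⊗[S₀] R₀) R t ∈ I := fun r => by
    obtain ⟨s, hs⟩ := hCS r
    exact ⟨algebraMap S _ s, by rwa [← IsScalarTower.algebraMap_apply]⟩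
  have hqf : ∀ (Q : Ideal R) [Q.IsPrime], I ≤ Q → Algebra.QuasiFiniteAt (S ⊗[S₀] R₀) Q := fun Q _ hQ => by
    haveI := hE Q hQ
    haveI : Algebra.FiniteType (S ⊗[S₀] R₀) R :=
      Algebra.FiniteType.of_restrictScalars_finiteType S (S ⊗[S₀] R₀) R
    haveI : Algebra.FormallyUnramified (S ⊗[S₀] R₀) (Localization.AtPrime Q) :=
      Algebra.FormallyUnramified.of_restrictScalars S _ _
    show Algebra.QuasiFinite (S ⊗[S₀] R₀) (Localization.AtPrime Q)
    infer_instance
  have hsq : I ≤ I ^ 2 ⊔ (I.comap (algebraMap (S ⊗[S₀] R₀) R)).map (algebraMap (S ⊗[S₀] R₀) R) := by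
    refine (le_sq_sup_map hCS hun).trans (sup_le_sup_left ?_ _)
    refine Ideal.map_le_iff_le_comap.2 fun s hs => ?_
    rw [Ideal.mem_comap, IsScalarTower.algebraMap_apply S (S ⊗[S₀] R₀) R]
    refine Ideal.mem_map_of_mem _ ?_
    rwa [Ideal.mem_comap, ← IsScalarTower.algebraMap_apply]
  have hinvR : ∀ e ∈ GLin.invariants k A R, ∃ t, algebraMap (S ⊗[S₀] R₀) R t = e := fun e he => by
    obtain ⟨r, rfl⟩ : e ∈ (IsScalarTower.toAlgHom k R₀ R).range := hR₀.symm ▸ he
    refine ⟨(1 : S) ⊗ₜ[S₀] r, ?_⟩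
    rw [hψ, map_one, one_mul]
    rfl
  have hEt : ∀ (Q : Ideal R) [Q.IsPrime], I ≤ Q → Algebra.IsEtaleAt (S ⊗[S₀] R₀) Q := fun Q _ hQ => by
    haveI := hE Q hQ
    let P := Q.comap (algebraMap (S ⊗[S₀] R₀) R)
    haveI : P.IsPrime := Ideal.comap_isPrime _ _
    haveI : Q.LiesOver P := ⟨rfl⟩
    let := Localization.AtPrime.algebraOfLiesOver P Q
    have hqP : (RingHom.ker x).comap (algebraMap R₀ R) ≤
        P.comap (Algebra.TensorProduct.includeRight : R₀ →ₐ[S₀] S ⊗[S₀] R₀) := by
      rw [← comap_ker_orbitHom x hR₀]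
      intro r hr
      show algebraMap (S ⊗[S₀] R₀) R ((1 : S) ⊗ₜ[S₀] r) ∈ Q
      rw [hψ, map_one, one_mul]
      exact hQ hr
    haveI : Algebra.FormallyUnramified S₀ (Localization.AtPrime ((RingHom.ker x).comap (algebraMap R₀ R))) :=
      inferInstance
    haveI : Algebra.FormallyUnramified S (Localization.AtPrime P) :=
      formallyUnramified_baseChange_at P _ (hqmax.eq_of_le (Ideal.comap_isPrime _ P).ne_top hqP).ge
    haveI : IsScalarTower S (Localization.AtPrime P) (Localization.AtPrime Q) :=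
      IsScalarTower.of_algebraMap_eq fun s => by
        rw [IsScalarTower.algebraMap_apply S (S ⊗[S₀] R₀) (Localization.AtPrime P),
          ← IsScalarTower.algebraMap_apply (S ⊗[S₀] R₀) (Localization.AtPrime P) (Localization.AtPrime Q),
          IsScalarTower.algebraMap_apply S R (Localization.AtPrime Q),
          IsScalarTower.algebraMap_apply (S ⊗[S₀] R₀) R (Localization.AtPrime Q),
          ← IsScalarTower.algebraMap_apply S (S ⊗[S₀] R₀) R]
    haveI : Algebra.FormallyEtale (Localization.AtPrime P) (Localization.AtPrime Q) :=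
      Algebra.FormallyEtale.of_restrictScalars (R := S)
    haveI : Algebra.FormallyEtale (S ⊗[S₀] R₀) (Localization.AtPrime P) :=
      Algebra.FormallyEtale.of_isLocalization P.primeCompl
    exact Algebra.FormallyEtale.comp (S ⊗[S₀] R₀) (Localization.AtPrime P) (Localization.AtPrime Q)
  have hinvT : ∀ t : S ⊗[S₀] R₀, ∃ r : R₀, actL α t = (1 : S) ⊗ₜ[S₀] r := by
    intro t
    induction t using TensorProduct.induction_on with
    | zero => exact ⟨0, by simp⟩
    | add a b ha hb =>
      obtain ⟨r, hr⟩ := ha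
      obtain ⟨r', hr'⟩ := hb
      exact ⟨r + r', by rw [map_add, hr, hr', TensorProduct.tmul_add]⟩
    | tmul s r =>
      obtain ⟨a, ha⟩ : actL α s ∈ (IsScalarTower.toAlgHom k S₀ S).range := hS₀.symm ▸ actL_mem_fixedPts hα h1 s
      refine ⟨algebraMap S₀ R₀ a * r, ?_⟩
      rw [actL_apply, hcT, sliceR_rTensor, ← actL_apply, ← ha]
      show algebraMap S₀ S a ⊗ₜ[S₀] r = _
      rw [← Algebra.smul_def, ← TensorProduct.smul_tmul, Algebra.algebraMap_eq_smul_one]
  have hIs : IsSubcomod (k := k) (A := A) (I.restrictScalars k) := isSubcomod_ker_orbitHom x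
  obtain ⟨e, he, he1, hsurj⟩ := exists_invariant_mul_mem_range hTR hIs hC hα h1 hqf hsq hinvR
  obtain ⟨u, hu, hu1, hker⟩ := exists_invariant_mul_ker hTR hIs hC hα h1 hEt
  obtain ⟨e₀, he₀⟩ : e ∈ (IsScalarTower.toAlgHom k R₀ R).range := hR₀.symm ▸ he
  change algebraMap R₀ R e₀ = e at he₀
  obtain ⟨a, ha⟩ := hinvT u
  rw [actL_eq_self_of_fixed h1 hu] at ha
  have hone : ∀ c : R, c - 1 ∈ I → x c = 1 := fun c hc => by
    have := apply_eq_zero_of_orbitHom_eq_zero x hc
    rwa [map_sub, map_one, sub_eq_zero] at this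
  refine ⟨a * e₀, ?_, fun z hz => ?_, fun r => ?_⟩
  · rw [map_mul, map_mul, he₀, hone e he1, mul_one]
    have h2 := hone _ hu1
    rwa [ha, hψ, map_one, one_mul] at h2
  · rw [show (1 : S) ⊗ₜ[S₀] (a * e₀) = ((1 : S) ⊗ₜ[S₀] a) * ((1 : S) ⊗ₜ[S₀] e₀) by
      rw [Algebra.TensorProduct.tmul_mul_tmul, one_mul], ← ha, mul_right_comm, hker z hz, zero_mul]
  · obtain ⟨n, z, hz⟩ := hsurj r
    refine ⟨n, ((1 : S) ⊗ₜ[S₀] (a ^ n)) * z, ?_⟩
    show algebraMap (S ⊗[S₀] R₀) R _ = _
    rw [map_mul (algebraMap (S ⊗[S₀] R₀) R), hψ, map_one, one_mul, hz, map_mul, map_pow, he₀, mul_pow, mul_assoc]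

end

end Groth.Agent.H20Luna
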