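import Groth.Agent.H20Luna.EtaleCrit
import Groth.Agent.H20Comod.OrbitPrimes
import Groth.Agent.H20HM.Setup
import Groth.Agent.H7Flat.GenericFreeness
import Mathlib.RingTheory.Flat.FaithfullyFlat.Algebra

/-!
An equivariant map, unramified along an orbit, which does not shrink stabilisers, is an
isomorphism from the orbit onto a closed orbit; the group is faithfully flat over a closed orbit.
-/

set_option autoImplicit false
set_option linter.style.haveILetI false
set_option linter.unusedSectionVars false
set_option backward.isDefEq.respectTransparency false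
set_option maxHeartbeats 400000
set_option synthInstance.maxHeartbeats 400000

universe u

open TensorProduct HopfRep
open Groth.Agent.H20Comod Groth.Agent.H20Comod.OrbitPrimes

namespace Groth.Agent.H20Luna

noncomputable section

theorem mem_nilradical_of_forall_points {k : Type u} [Field k] [IsAlgClosed k] {B : Type u} [CommRing B] [Algebra k B]
    [Algebra.FiniteType k B] {b : B} (h : ∀ z : B →ₐ[k] k, z b = 0) : b ∈ nilradical B := by
  rw [nilradical_eq_sInf, Ideal.mem_sInf]
  intro q (hq : q.IsPrime)
  haveI := hq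
  by_contra hb
  obtain ⟨z, -, hz⟩ := exists_point_notMem (k := k) q hb
  exact hz (h z)

variable {k : Type u} [Field k] [IsAlgClosed k] {A : Type u} [CommRing A] [HopfAlgebra k A]
  [Algebra.FiniteType k A]

section Flat

variable [IsDomain A] {S : Type u} [CommRing S] [Algebra k S] [Algebra.FiniteType k S]
  [Comod k A S] [GLin.IsCoactAlg k A S] {y : S →ₐ[k] k}

/-- The group is flat over the coordinate ring of an orbit. -/
theorem flat_range_orbitHom (y : S →ₐ[k] k) : Module.Flat (GLin.orbitHom k A y).range A := by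
  classical
  letI : GLin.IsCoactAlg k A A := ⟨Bialgebra.comul_one, Bialgebra.comul_mul⟩
  set B := (GLin.orbitHom k A y).range with hB
  haveI : Algebra.FiniteType B A := Algebra.FiniteType.of_restrictScalars_finiteType k B A
  obtain ⟨b, hb, hfree⟩ := H7Flat.exists_isAwayFree_of_finiteType (R := B) A A
  haveI := hfree.free_baseChange
  let L := Localization.Away (algebraMap B A b)
  haveI hloc : IsLocalization (Algebra.algebraMapSubmonoid A (Submonoid.powers b)) L := by
    rw [show Algebra.algebraMapSubmonoid A (Submonoid.powers b) = Submonoid.powers (algebraMap B A b) from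
      Submonoid.map_powers _ _]
    infer_instance
  haveI hflatL : Module.Flat B L := by
    haveI : Module.Flat B (Localization.Away b ⊗[B] A) := Module.Flat.trans B (Localization.Away b) _
    exact Module.Flat.of_linearEquiv
      ((IsLocalizedModule.isBaseChange (Submonoid.powers b) (Localization.Away b)
        (LocalizedModule.mkLinearMap (Submonoid.powers b) A)).equiv.restrictScalars B ≪≫ₗ
          IsLocalizedModule.iso (Submonoid.powers b) (IsScalarTower.toAlgHom B A L).toLinearMap).symm
  have hstab : ∀ (g : A →ₐ[k] k), ∀ c ∈ B, actAlg g c ∈ B := by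
    rintro g _ ⟨f, rfl⟩
    refine ⟨actAlg g f, ?_⟩
    rw [actAlg_apply, actAlg_apply]
    exact actL_natural (GLin.orbitHom k A y).toLinearMap (isComodHom_orbitHom y) _ f
  let τ : (A →ₐ[k] k) → A := fun g => actAlg g (b : A)
  have key : ∀ g, Module.Flat B (Localization.Away (τ g)) := by
    intro g
    let β : B ≃+* B :=
      { toFun := fun c => ⟨actAlg g (c : A), hstab g c c.2⟩
        invFun := fun c => ⟨actAlg ((WithConv.toConv g)⁻¹).ofConv (c : A), hstab _ c c.2⟩
        left_inv := fun c => Subtype.ext (actAlg_inv g (c : A))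
        right_inv := fun c => Subtype.ext (actAlg_inv' g (c : A))
        map_mul' := fun c d => Subtype.ext (map_mul (actAlg g) (c : A) d)
        map_add' := fun c d => Subtype.ext (map_add (actAlg g) (c : A) d) }
    let α : A ≃+* A := RingEquiv.ofBijective (actAlg g : A →ₐ[k] A).toRingHom (actAlg_bijective g)
    let E : L ≃+* Localization.Away (τ g) :=
      IsLocalization.ringEquivOfRingEquiv (M := Submonoid.powers (algebraMap B A b)) (T := Submonoid.powers (τ g))
        L (Localization.Away (τ g)) α (Submonoid.map_powers _ _)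
    have heq : algebraMap B (Localization.Away (τ g)) = ((E : L →+* _).comp (algebraMap B L)).comp (β.symm : B →+* B) := by
      refine RingHom.ext fun c => ?_
      obtain ⟨c, rfl⟩ := β.surjective c
      simp only [RingHom.comp_apply, RingHom.coe_coe, RingEquiv.symm_apply_apply]
      rw [IsScalarTower.algebraMap_apply B A L, IsScalarTower.algebraMap_apply B A (Localization.Away (τ g))]
      show _ = IsLocalization.ringEquivOfRingEquiv L (Localization.Away (τ g)) α _ _
      rw [IsLocalization.ringEquivOfRingEquiv_eq]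
      rfl
    rw [← RingHom.flat_algebraMap_iff, heq]
    exact (RingHom.Flat.of_bijective β.symm.bijective).comp
      ((RingHom.flat_algebraMap_iff.2 hflatL).comp (RingHom.Flat.of_bijective E.bijective))
  have hspan : Ideal.span (Set.range τ) = ⊤ := by
    by_contra hne
    obtain ⟨a, ha⟩ := exists_point_le_ker (k := k) hne
    have hb0 : (b : A) ≠ 0 := fun h => hb (Subtype.ext h)
    obtain ⟨h, -, hh⟩ := exists_point_notMem (k := k) (⊥ : Ideal A) (f := (b : A)) hb0
    refine hh ?_
    have h2 : a (τ ((WithConv.toConv a)⁻¹ * WithConv.toConv h).ofConv) = 0 := ha (Ideal.subset_span ⟨_, rfl⟩)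
    have h3 := H20HM.apply_actL (WithConv.toConv a) ((WithConv.toConv a)⁻¹ * WithConv.toConv h) (b : A)
    rw [mul_inv_cancel_left] at h3
    rw [← h2]
    exact h3.symm.trans (congrArg a (actAlg_apply _ _).symm)
  exact Module.flat_of_isLocalized_span A A (Set.range τ) hspan (fun r => Localization.Away r.1)
    (fun r => Algebra.linearMap A (Localization.Away r.1)) fun r => by
      obtain ⟨-, g, rfl⟩ := r
      exact key g

/-- The group is faithfully flat over the coordinate ring of a closed orbit. -/
theorem faithfullyFlat_range_orbitHom (hy : GLin.IsClosedOrbit k A y) :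
    Module.FaithfullyFlat (GLin.orbitHom k A y).range A := by
  haveI := flat_range_orbitHom (A := A) y
  refine Module.FaithfullyFlat.of_comap_surjective fun p => ?_
  let θ' := (GLin.orbitHom k A y).rangeRestrict
  have hmem : p.comap θ'.toRingHom ∈ Set.range (PrimeSpectrum.comap (GLin.orbitHom k A y).toRingHom) := by
    rw [← hy.closure_eq, PrimeSpectrum.closure_range_comap, PrimeSpectrum.mem_zeroLocus]
    intro f hf
    show θ' f ∈ p.asIdeal
    rw [show θ' f = 0 from Subtype.ext hf]
    exact p.asIdeal.zero_mem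
  obtain ⟨q, hq⟩ := hmem
  refine ⟨q, PrimeSpectrum.comap_injective_of_surjective θ'.toRingHom
    (GLin.orbitHom k A y).rangeRestrict_surjective ?_⟩
  rw [← hq]
  rfl

end Flat

variable {S R : Type u} [CommRing S] [Algebra k S] [Algebra.FiniteType k S] [Comod k A S] [GLin.IsCoactAlg k A S]
  [CommRing R] [Algebra k R] [Algebra.FiniteType k R] [Comod k A R] [GLin.IsCoactAlg k A R]
  [Algebra S R] [IsScalarTower k S R]

variable (hequiv : ∀ s : S, Comod.coact (k := k) (A := A) (algebraMap S R s) =
    Algebra.TensorProduct.map (IsScalarTower.toAlgHom k S R) (AlgHom.id k A) (Comod.coact (k := k) (A := A) s))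
  (x : R →ₐ[k] k)

include hequiv in
omit [IsAlgClosed k] [Algebra.FiniteType k A] [Algebra.FiniteType k S] [Algebra.FiniteType k R] in
theorem orbitHom_algebraMap (s : S) :
    GLin.orbitHom k A x (algebraMap S R s) = GLin.orbitHom k A (x.comp (IsScalarTower.toAlgHom k S R)) s :=
  AlgHom.congr_fun (orbitHom_natural (IsScalarTower.toAlgHom k S R) hequiv x) s

omit [IsAlgClosed k] [Algebra.FiniteType k A] [Algebra.FiniteType k R] [Algebra.FiniteType k S] in
theorem actPt_eq_of_stab {y : S →ₐ[k] k}
    (hinj : ∀ g : A →ₐ[k] k, GLin.actPt k g y = y → GLin.actPt k g x = x) {g h : A →ₐ[k] k}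
    (e : GLin.actPt k g y = GLin.actPt k h y) : GLin.actPt k g x = GLin.actPt k h x := by
  let γ := (WithConv.toConv g * (WithConv.toConv h)⁻¹).ofConv
  have hγ : GLin.actPt k γ y = y := by
    rw [← actPt_actPt (h := g) (g := ((WithConv.toConv h)⁻¹).ofConv), e, actPt_actPt]
    conv_rhs => rw [← actPt_one (A := A) y]
    exact congrArg (fun z => GLin.actPt k z y) (congrArg WithConv.ofConv (mul_inv_cancel (WithConv.toConv h)))
  conv_rhs => rw [← hinj γ hγ, actPt_actPt]
  simp [γ, mul_assoc]

include hequiv in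
/-- An equivariant map, unramified along an orbit and not shrinking stabilisers, maps the orbit
isomorphically onto a closed orbit. -/
theorem exists_sub_mem_ker_orbitHom [IsDomain A]
    (hy : GLin.IsClosedOrbit k A (x.comp (IsScalarTower.toAlgHom k S R)))
    (hinj : ∀ g : A →ₐ[k] k, GLin.actPt k g (x.comp (IsScalarTower.toAlgHom k S R)) =
      x.comp (IsScalarTower.toAlgHom k S R) → GLin.actPt k g x = x)
    (hun : ∀ (Q : Ideal R) [Q.IsPrime], RingHom.ker (GLin.orbitHom k A x) ≤ Q → Algebra.IsUnramifiedAt S Q)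
    (r : R) : ∃ s : S, r - algebraMap S R s ∈ RingHom.ker (GLin.orbitHom k A x) := by
  classical
  haveI : Algebra.FiniteType S R := Algebra.FiniteType.of_restrictScalars_finiteType k S R
  set y := x.comp (IsScalarTower.toAlgHom k S R)
  set θx := GLin.orbitHom k A x
  let B := (GLin.orbitHom k A y).range
  haveI := faithfullyFlat_range_orbitHom (A := A) hy
  haveI : Algebra.FiniteType B A := Algebra.FiniteType.of_restrictScalars_finiteType k B A
  haveI : Algebra.FiniteType k (A ⊗[B] A) := Algebra.FiniteType.trans (‹Algebra.FiniteType k A›) (inferInstance : Algebra.FiniteType A (A ⊗[B] A))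
  haveI : IsNoetherianRing (A ⊗[B] A) := Algebra.FiniteType.isNoetherianRing k _
  letI : Algebra S A := (GLin.orbitHom k A y).toRingHom.toAlgebra
  haveI : SMulCommClass B S A := ⟨fun b s a => by simp only [Algebra.smul_def, mul_left_comm]⟩
  let θS : R →ₐ[S] A := { θx.toRingHom with commutes' := orbitHom_algebraMap hequiv x }
  let iL : A →ₐ[S] A ⊗[B] A :=
    { (Algebra.TensorProduct.includeLeft : A →ₐ[B] A ⊗[B] A).toRingHom with commutes' := fun _ => rfl }
  let iR : A →ₐ[S] A ⊗[B] A :=
    { (Algebra.TensorProduct.includeRight : A →ₐ[B] A ⊗[B] A).toRingHom with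
      commutes' := fun s => by
        show (1 : A) ⊗ₜ[B] algebraMap B A ((GLin.orbitHom k A y).rangeRestrict s) =
          algebraMap B A ((GLin.orbitHom k A y).rangeRestrict s) ⊗ₜ[B] (1 : A)
        rw [Algebra.algebraMap_eq_smul_one, TensorProduct.smul_tmul] }
  let Φ : R ⊗[S] R →ₐ[S] A ⊗[B] A :=
    Algebra.TensorProduct.lift (iL.comp θS) (iR.comp θS) fun _ _ => Commute.all _ _
  have hΦ : ∀ a b : R, Φ (a ⊗ₜ b) = θx a ⊗ₜ[B] θx b := fun a b => by
    show (θx a ⊗ₜ[B] (1 : A)) * ((1 : A) ⊗ₜ[B] θx b) = _
    simp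
  set K := KaehlerDifferential.ideal S R
  set P := K.map Φ.toRingHom with hP
  have hK : ∀ z ∈ K, z ∈ K * K ⊔ (RingHom.ker θx).map (algebraMap R (R ⊗[S] R)) * K := by
    intro z hz
    set M := K * K ⊔ (RingHom.ker θx).map (algebraMap R (R ⊗[S] R)) * K
    have h : K.toCotangent ⟨z, hz⟩ ∈ (RingHom.ker θx) • (⊤ : Submodule R Ω[R⁄S]) :=
      mem_smul_top_of_unramified hun _
    suffices ∀ ω ∈ (RingHom.ker θx) • (⊤ : Submodule R Ω[R⁄S]), ∀ w : K, K.toCotangent w = ω → (w : R ⊗[S] R) ∈ M from
      this _ h _ rfl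
    intro ω hω
    refine Submodule.smul_induction_on hω (fun i hi v _ w hw => ?_) (fun u v hu hv w hw => ?_)
    · obtain ⟨v, rfl⟩ := Ideal.toCotangent_surjective K v
      have h2 : (w : R ⊗[S] R) - algebraMap R (R ⊗[S] R) i * v ∈ K ^ 2 := by
        refine (Ideal.toCotangent_eq (I := K) (x := w) (y := algebraMap R (R ⊗[S] R) i • v)).1 ?_
        rw [map_smul, hw, algebraMap_smul]
      rw [← sub_add_cancel (w : R ⊗[S] R) (algebraMap R (R ⊗[S] R) i * v)]
      exact add_mem (Ideal.mem_sup_left (by rwa [← pow_two]))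
        (Ideal.mem_sup_right (Ideal.mul_mem_mul (Ideal.mem_map_of_mem _ hi) v.2))
    · obtain ⟨u, rfl⟩ := Ideal.toCotangent_surjective K u
      obtain ⟨v, rfl⟩ := Ideal.toCotangent_surjective K v
      have h2 : (w : R ⊗[S] R) - (u + v : K) ∈ K ^ 2 :=
        (Ideal.toCotangent_eq (I := K)).1 (by rw [hw, map_add])
      rw [← sub_add_cancel (w : R ⊗[S] R) ((u + v : K) : R ⊗[S] R), Submodule.coe_add]
      exact add_mem (Ideal.mem_sup_left (by rwa [← pow_two])) (add_mem (hu _ rfl) (hv _ rfl))
  have hPP : P ≤ P • P := by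
    rw [hP, Ideal.map_le_iff_le_comap]
    intro z hz
    have := Ideal.mem_map_of_mem Φ.toRingHom (hK z hz)
    rw [Ideal.map_sup, Ideal.map_mul, Ideal.map_mul] at this
    refine (sup_le (le_refl _) (Ideal.mul_mono_left ?_) : _ ≤ P * P) this
    rw [Ideal.map_map, Ideal.map_le_iff_le_comap]
    intro i hi
    show Φ (i ⊗ₜ (1 : R)) ∈ P
    rw [hΦ, show θx i = 0 from hi, TensorProduct.zero_tmul]
    exact P.zero_mem
  have hnil : P ≤ nilradical (A ⊗[B] A) := by
    rw [hP, Ideal.map_le_iff_le_comap, show K = KaehlerDifferential.ideal S R from rfl, ← KaehlerDifferential.span_range_eq_ideal, Ideal.span_le]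
    rintro _ ⟨f, rfl⟩
    show Φ ((1 : R) ⊗ₜ f - f ⊗ₜ (1 : R)) ∈ nilradical _
    refine mem_nilradical_of_forall_points (k := k) fun ζ => ?_
    let g : A →ₐ[k] k := ζ.comp (Algebra.TensorProduct.includeLeft : A →ₐ[k] A ⊗[B] A)
    let h : A →ₐ[k] k := ζ.comp ((Algebra.TensorProduct.includeRight : A →ₐ[B] A ⊗[B] A).restrictScalars k)
    have hgh : GLin.actPt k g y = GLin.actPt k h y := AlgHom.ext fun s => congrArg ζ ((iR.commutes s).symm)
    have h2 := AlgHom.congr_fun (actPt_eq_of_stab x hinj hgh) f
    rw [map_sub, map_sub, hΦ, hΦ, map_one, sub_eq_zero]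
    exact h2.symm
  obtain ⟨t, ht, hkill⟩ := Submodule.exists_sub_one_mem_and_smul_eq_zero_of_fg_of_le_smul P P
    (IsNoetherian.noetherian P) hPP
  have hu : IsUnit t := by
    have := (mem_nilradical.1 (hnil ht)).isUnit_add_one
    rwa [sub_add_cancel] at this
  have hz : θx r ⊗ₜ[B] (1 : A) = (1 : A) ⊗ₜ[B] θx r := by
    have hmem : Φ ((1 : R) ⊗ₜ r - r ⊗ₜ (1 : R)) ∈ P :=
      Ideal.mem_map_of_mem _ (KaehlerDifferential.one_smul_sub_smul_one_mem_ideal S r)
    have h0 := hu.smul_eq_zero.1 (hkill _ hmem)
    rw [map_sub, hΦ, hΦ, map_one, sub_eq_zero] at h0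
    exact h0.symm
  have hrange : θx r ∈ LinearMap.range (Algebra.linearMap B A) := by
    rw [← Submodule.Quotient.mk_eq_zero]
    refine Module.FaithfullyFlat.tensorProduct_mk_injective (A := B) (B := A)
      (A ⧸ LinearMap.range (Algebra.linearMap B A)) ?_
    have h1 := congrArg (LinearMap.lTensor A (LinearMap.range (Algebra.linearMap B A)).mkQ) hz
    rw [LinearMap.lTensor_tmul, LinearMap.lTensor_tmul, Submodule.mkQ_apply, Submodule.mkQ_apply,
      (Submodule.Quotient.mk_eq_zero (LinearMap.range (Algebra.linearMap B A))).2 ⟨1, by simp⟩,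
      TensorProduct.tmul_zero] at h1
    rw [map_zero]
    exact h1.symm
  obtain ⟨⟨_, s, rfl⟩, hs⟩ := hrange
  refine ⟨s, ?_⟩
  show θx (r - algebraMap S R s) = 0
  rw [map_sub, sub_eq_zero, orbitHom_algebraMap hequiv x]
  exact hs.symm

include hequiv in
/-- Étaleness spreads along a closed orbit. -/
theorem isEtaleAt_of_ker_orbitHom_le (hx : GLin.IsClosedOrbit k A x) [(RingHom.ker x).IsPrime]
    (het : Algebra.IsEtaleAt S (RingHom.ker x)) (Q : Ideal R) [hQ : Q.IsPrime]
    (hle : RingHom.ker (GLin.orbitHom k A x) ≤ Q) : Algebra.IsEtaleAt S Q := by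
  haveI : IsNoetherianRing S := Algebra.FiniteType.isNoetherianRing k S
  haveI : Algebra.FiniteType S R := Algebra.FiniteType.of_restrictScalars_finiteType k S R
  haveI : Algebra.FinitePresentation S R := Algebra.FinitePresentation.of_finiteType.mp inferInstance
  obtain ⟨M, hM, hQM⟩ := Ideal.exists_le_maximal Q hQ.ne_top
  haveI := hM.isPrime
  suffices hMe : Algebra.IsEtaleAt S M from
    ((PrimeSpectrum.le_iff_specializes (⟨Q, hQ⟩ : PrimeSpectrum R) ⟨M, hM.isPrime⟩).1 hQM).mem_open
      Algebra.isOpen_etaleLocus hMe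
  obtain ⟨z, hz⟩ := exists_point_le_ker (k := k) hM.ne_top
  have hMz : M = RingHom.ker z := hM.eq_of_le (RingHom.ker_ne_top z) hz
  obtain ⟨g, rfl⟩ := exists_actPt_eq_of_isClosedOrbit hx ((hle.trans hQM).trans hMz.le)
  let g' := ((WithConv.toConv g)⁻¹).ofConv
  let α : R ≃+* R := RingEquiv.ofBijective (actAlg g' : R →ₐ[k] R).toRingHom (actAlg_bijective g')
  let β : S ≃+* S := RingEquiv.ofBijective (actAlg g' : S →ₐ[k] S).toRingHom (actAlg_bijective g')
  refine isEtaleAt_comap α β (fun s => ?_) M (RingHom.ker x) ?_ het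
  · show actAlg g' (algebraMap S R s) = algebraMap S R (actAlg g' s)
    rw [actAlg_apply, actAlg_apply]
    exact (actL_natural (IsScalarTower.toAlgHom k S R).toLinearMap (LinearMap.ext hequiv) _ s).symm
  · ext f
    rw [hMz, Ideal.mem_comap, RingHom.mem_ker, RingHom.mem_ker]
    show x f = 0 ↔ g (GLin.orbitHom k A x (actAlg g' f)) = 0
    rw [← apply_act, show Comod.act k A R g (actAlg g' f) = actAlg g (actAlg g' f) from (actAlg_apply g _).symm,
      actAlg_inv']

end

end Groth.Agent.H20Luna
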