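import Groth.Agent.H20Luna.Closed
import Groth.Agent.H20Luna.Neighbourhood
import Mathlib.RingTheory.Spectrum.Prime.Chevalley
import Mathlib.RingTheory.Smooth.Flat
import Mathlib.RingTheory.Etale.Locus
import Mathlib.RingTheory.Localization.BaseChange

/-!
Saturated neighbourhoods over which a map is a base change of an étale map of quotients.
-/

set_option autoImplicit false
set_option linter.style.haveILetI false
set_option linter.unusedSectionVars false
set_option backward.isDefEq.respectTransparency false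
set_option maxHeartbeats 800000
set_option synthInstance.maxHeartbeats 100000

universe u

open TensorProduct HopfRep
open Groth.Agent.H20Comod Groth.Agent.H20Comod.OrbitPrimes

namespace Groth.Agent.H20Luna

noncomputable section

variable {S₀ R₀ S R : Type u} [CommRing S₀] [CommRing R₀] [CommRing S] [CommRing R]
  [Algebra S₀ R₀] [Algebra S₀ S] [Algebra S R] [Algebra R₀ R] [Algebra S₀ R]
  [IsScalarTower S₀ S R] [IsScalarTower S₀ R₀ R]

/-- Primes of the two factors over one prime of the base lie under a prime of the tensor product. -/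
theorem exists_prime_tensor (P : Ideal S) [P.IsPrime] (q : Ideal R₀) [q.IsPrime]
    (h : P.comap (algebraMap S₀ S) = q.comap (algebraMap S₀ R₀)) :
    ∃ Q : Ideal (S ⊗[S₀] R₀), Q.IsPrime ∧
      Q.comap (Algebra.TensorProduct.includeLeftRingHom : S →+* S ⊗[S₀] R₀) = P ∧
      Q.comap (Algebra.TensorProduct.includeRight : R₀ →ₐ[S₀] S ⊗[S₀] R₀) = q := by
  let p := q.comap (algebraMap S₀ R₀)
  haveI : p.IsPrime := Ideal.comap_isPrime _ _
  haveI : q.LiesOver p := ⟨rfl⟩
  haveI : P.LiesOver p := ⟨h.symm⟩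
  let := Localization.AtPrime.algebraOfLiesOver p q
  let := Localization.AtPrime.algebraOfLiesOver p P
  let φ : S ⊗[S₀] R₀ →ₐ[S₀] P.ResidueField ⊗[p.ResidueField] q.ResidueField :=
    Algebra.TensorProduct.lift
      (((Algebra.TensorProduct.includeLeft :
          P.ResidueField →ₐ[p.ResidueField] P.ResidueField ⊗[p.ResidueField] q.ResidueField).restrictScalars S₀).comp
        (IsScalarTower.toAlgHom S₀ S P.ResidueField))
      (((Algebra.TensorProduct.includeRight :
          q.ResidueField →ₐ[p.ResidueField] P.ResidueField ⊗[p.ResidueField] q.ResidueField).restrictScalars S₀).comp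
        (IsScalarTower.toAlgHom S₀ R₀ q.ResidueField))
      fun _ _ => Commute.all _ _
  haveI : Nontrivial (P.ResidueField ⊗[p.ResidueField] q.ResidueField) := inferInstance
  obtain ⟨M, hM⟩ := Ideal.exists_maximal (P.ResidueField ⊗[p.ResidueField] q.ResidueField)
  haveI := hM.isPrime
  refine ⟨M.comap φ, Ideal.comap_isPrime _ _, ?_, ?_⟩
  · ext s
    have e : φ (s ⊗ₜ[S₀] 1) = algebraMap P.ResidueField _ (algebraMap S P.ResidueField s) := by simp [φ]
    have hbot : M.comap (algebraMap P.ResidueField (P.ResidueField ⊗[p.ResidueField] q.ResidueField)) = ⊥ :=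
      (Ideal.eq_bot_or_top _).resolve_right (Ideal.comap_ne_top _ hM.ne_top)
    show φ (s ⊗ₜ[S₀] 1) ∈ M ↔ s ∈ P
    rw [e, ← Ideal.mem_comap, hbot, Ideal.mem_bot, Ideal.algebraMap_residueField_eq_zero]
  · ext r
    have e : φ ((1 : S) ⊗ₜ[S₀] r) =
        (Algebra.TensorProduct.includeRight : q.ResidueField →ₐ[p.ResidueField] _) (algebraMap R₀ q.ResidueField r) := by
      simp [φ]
    have hbot : M.comap (Algebra.TensorProduct.includeRight :
        q.ResidueField →ₐ[p.ResidueField] P.ResidueField ⊗[p.ResidueField] q.ResidueField).toRingHom = ⊥ :=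
      (Ideal.eq_bot_or_top _).resolve_right (Ideal.comap_ne_top _ hM.ne_top)
    show φ ((1 : S) ⊗ₜ[S₀] r) ∈ M ↔ r ∈ q
    rw [e]
    exact (SetLike.ext_iff.1 hbot _).trans (Ideal.mem_bot.trans Ideal.algebraMap_residueField_eq_zero)

/-- The product map becomes an isomorphism after inverting an element killing its kernel and moving everything
into its image. -/
theorem isLocalization_away_of_cartesian [Algebra (S ⊗[S₀] R₀) R]
    (hψ : ∀ (s : S) (r : R₀), algebraMap (S ⊗[S₀] R₀) R (s ⊗ₜ[S₀] r) = algebraMap S R s * algebraMap R₀ R r)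
    (F : R₀)
    (hker : ∀ z : S ⊗[S₀] R₀, algebraMap (S ⊗[S₀] R₀) R z = 0 → ((1 : S) ⊗ₜ[S₀] F) * z = 0)
    (hrange : ∀ r : R, ∃ (n : ℕ) (z : S ⊗[S₀] R₀), algebraMap (S ⊗[S₀] R₀) R z = algebraMap R₀ R F ^ n * r) :
    IsLocalization.Away ((1 : S) ⊗ₜ[S₀] F) (Localization.Away (algebraMap R₀ R F)) := by
  have h1 : algebraMap (S ⊗[S₀] R₀) R ((1 : S) ⊗ₜ[S₀] F) = algebraMap R₀ R F := by rw [hψ, map_one, one_mul]
  have hu : IsUnit (algebraMap R (Localization.Away (algebraMap R₀ R F)) (algebraMap R₀ R F)) :=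
    IsLocalization.Away.algebraMap_isUnit _
  refine IsLocalization.Away.mk _ ?_ (fun w => ?_) fun a b hab => ?_
  · rw [IsScalarTower.algebraMap_apply (S ⊗[S₀] R₀) R, h1]
    exact hu
  · obtain ⟨m, r, hr⟩ := IsLocalization.Away.surj (algebraMap R₀ R F) w
    obtain ⟨n, z, hz⟩ := hrange r
    refine ⟨m + n, z, ?_⟩
    rw [IsScalarTower.algebraMap_apply (S ⊗[S₀] R₀) R (Localization.Away (algebraMap R₀ R F)) z, hz,
      IsScalarTower.algebraMap_apply (S ⊗[S₀] R₀) R (Localization.Away (algebraMap R₀ R F)), h1, pow_add, ← mul_assoc,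
      hr, map_mul, map_pow, mul_comm]
  · rw [IsScalarTower.algebraMap_apply (S ⊗[S₀] R₀) R (Localization.Away (algebraMap R₀ R F)),
      IsScalarTower.algebraMap_apply (S ⊗[S₀] R₀) R (Localization.Away (algebraMap R₀ R F))] at hab
    obtain ⟨m, hm⟩ := IsLocalization.Away.exists_of_eq (algebraMap R₀ R F) hab
    refine ⟨m + 1, sub_eq_zero.1 ?_⟩
    rw [← mul_sub, pow_succ', mul_assoc]
    refine hker _ ?_
    rw [map_mul, map_sub, map_pow, h1, mul_sub, hm, sub_self]

/-- Over a set where the product map is an isomorphism a map is surjective as soon as the map of the bases is,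
and étale as soon as that is. -/
theorem exists_prime_away [Algebra (S ⊗[S₀] R₀) R] [IsScalarTower S (S ⊗[S₀] R₀) R] (F : R₀)
    [IsLocalization.Away ((1 : S) ⊗ₜ[S₀] F) (Localization.Away (algebraMap R₀ R F))]
    (P : Ideal S) [P.IsPrime] (q : Ideal R₀) [q.IsPrime] (hF : F ∉ q)
    (h : P.comap (algebraMap S₀ S) = q.comap (algebraMap S₀ R₀)) :
    ∃ Q : Ideal R, Q.IsPrime ∧ algebraMap R₀ R F ∉ Q ∧ Q.comap (algebraMap S R) = P := by
  obtain ⟨T, hT, hT1, hT2⟩ := exists_prime_tensor P q h
  have hmem : (⟨T, hT⟩ : PrimeSpectrum (S ⊗[S₀] R₀)) ∈ Set.range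
      (PrimeSpectrum.comap (algebraMap (S ⊗[S₀] R₀) (Localization.Away (algebraMap R₀ R F)))) := by
    rw [PrimeSpectrum.localization_away_comap_range _ ((1 : S) ⊗ₜ[S₀] F)]
    intro hm
    exact hF (by rw [← hT2]; exact hm)
  obtain ⟨M, hM⟩ := hmem
  refine ⟨M.asIdeal.comap (algebraMap R _), Ideal.comap_isPrime _ _, fun hm => M.isPrime.ne_top ?_, ?_⟩
  · exact Ideal.eq_top_of_isUnit_mem _ hm (IsLocalization.Away.algebraMap_isUnit _)
  · rw [← hT1, ← show M.asIdeal.comap (algebraMap (S ⊗[S₀] R₀) _) = T from congrArg PrimeSpectrum.asIdeal hM,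
      Ideal.comap_comap, Ideal.comap_comap, IsScalarTower.algebraMap_eq (S ⊗[S₀] R₀) R (Localization.Away _),
      RingHom.comp_assoc, IsScalarTower.algebraMap_eq S (S ⊗[S₀] R₀) R]
    rfl

theorem formallyEtale_away [Algebra (S ⊗[S₀] R₀) R] [IsScalarTower S (S ⊗[S₀] R₀) R] (F : R₀)
    [IsLocalization.Away ((1 : S) ⊗ₜ[S₀] F) (Localization.Away (algebraMap R₀ R F))]
    [Algebra.FormallyEtale S₀ (Localization.Away F)] :
    Algebra.FormallyEtale S (Localization.Away (algebraMap R₀ R F)) := by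
  haveI : IsScalarTower S (S ⊗[S₀] R₀) (Localization.Away (algebraMap R₀ R F)) :=
    IsScalarTower.of_algebraMap_eq fun s => by
      rw [IsScalarTower.algebraMap_apply (S ⊗[S₀] R₀) R (Localization.Away (algebraMap R₀ R F)),
        ← IsScalarTower.algebraMap_apply S (S ⊗[S₀] R₀) R, ← IsScalarTower.algebraMap_apply S R]
  refine Algebra.FormallyEtale.of_equiv (A := S ⊗[S₀] Localization.Away F)
    ((IsLocalization.Away.tensorProductEquivTMulRight S₀ S F (Localization.Away F)).trans
      ((IsLocalization.algEquiv (Submonoid.powers ((1 : S) ⊗ₜ[S₀] F)) _ _).restrictScalars S))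

end

end Groth.Agent.H20Luna
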